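import Cfsg.Agent.H290.Cov.T30
import Cfsg.Agent.H563.KG.GoodE
import Cfsg.Agent.H563.KG.KE6

/-!
# The core argument for the classes 20, 24, 30 of `E₈(q)` (helper290, after helper563's `KG.Elim`, `KG.Core`)
-/

set_option autoImplicit false

namespace Cfsg.Agent.H290.Cov30

open Cfsg Cfsg.Agent.OrdDiv Cfsg.Agent.H436 Cfsg.Agent.H902 Cfsg.Agent.H902.Names Cfsg.Agent.H915.GN
  Cfsg.Agent.H290.ElReg Cfsg.Agent.H290.ElTab Cfsg.Agent.H264.FKS Cfsg.Agent.H56.Exc Cfsg.Agent.H325.Loc Cfsg.Agent.H563.KG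

/-- in the alternating group `A_m` the number `ncl e q` lies between `m - 3` and `m` -/
theorem window {q e m : ℕ} (hq : 2 ≤ q) (he : Cls e) (he7 : 7 ≤ e) {S : Type*} [Group S] [Finite S] (hm : 2 ≤ m)
    (Φ : S ≃* alternatingGroup (Fin m)) (hn : ncl e q ∣ Nat.card S)
    (hcen : ∀ r, Prim q e r → ∀ x : S, orderOf x = r → Group.IsNilpotent (Subgroup.centralizer ({x} : Set S))) :
    ncl e q ≤ m ∧ m ≤ ncl e q + 3 := by
  obtain ⟨r, hr⟩ := exists_prim hq (show 3 ≤ e by omega) (by omega)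
  have key : ∀ s, Prim q e s → s ≤ m ∧ m ≤ s + 3 := fun s hs => by
    have h1 : s ∣ Nat.card S := (dvd_ncl he (by omega) hs).trans hn
    have h5 := five_le_of_cls hq he7 hs
    exact ⟨Cfsg.Agent.H290.ElRich.le_of_dvd_alt hs.prime hm Φ h1,
      Cfsg.Agent.H290.ElRich.alt_le hs.prime (by omega) Φ h1 (hcen s hs)⟩
  have hmod : ∀ s, Prim q e s → e ∣ s - 1 := fun s hs => Nat.dvd_of_mod_eq_zero (mod_of_prim hq (by omega) hs)
  have huniq : ∀ {s : ℕ}, s.Prime → s ∣ ncl e q → s = r := by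
    intro s hs hsd
    have hs' := prim_of_dvd he (by omega) hs hsd
    have h1 := key s hs'
    have h2 := key r hr
    have h3 := hmod s hs'
    have h4 := hmod r hr
    have h5 := five_le_of_cls hq he7 hs'
    have h6 := five_le_of_cls hq he7 hr
    by_contra hne
    rcases Nat.lt_or_gt_of_ne hne with h | h
    · have h7 := Nat.le_of_dvd (by omega) (Nat.dvd_sub h4 h3)
      omega
    · have h7 := Nat.le_of_dvd (by omega) (Nat.dvd_sub h3 h4)
      omega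
  have hpow := Nat.eq_prime_pow_of_unique_prime_dvd (ncl_pos e (by omega : 1 ≤ q)).ne' huniq
  set k := (ncl e q).primeFactorsList.length with hk
  have hr1 : r ∣ ncl e q := dvd_ncl he (by omega) hr
  have h2 := key r hr
  have h8 := five_le_of_cls hq he7 hr
  have hk1 : k = 1 := by
    have hk0 : k ≠ 0 := by
      intro h0
      rw [h0, pow_zero] at hpow
      rw [hpow] at hr1
      exact hr.prime.one_lt.ne' (Nat.dvd_one.1 hr1)
    by_contra hk1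
    have h3 : r ^ 2 ∣ ncl e q := by rw [hpow]; exact pow_dvd_pow _ (by omega)
    have : Nontrivial (Fin m) := Fin.nontrivial_iff_two_le.2 hm
    have h4 : 2 * Nat.card S = m.factorial := by
      rw [Nat.card_congr Φ.toEquiv, Nat.card_eq_fintype_card, two_mul_card_alternatingGroup, Fintype.card_perm,
        Fintype.card_fin]
    refine sq_not_dvd_factorial hr.prime (m := m) (by omega) ?_
    rw [← h4]
    exact (h3.trans hn).mul_left _
  rw [hpow, hk1, pow_one]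
  exact h2

variable {n : ℕ} {Y : Art.Sh} {cls : List ℕ} {e₀ p f : ℕ}

/-- **The name.** -/
theorem exists_name (tb : OrderTable.{0}) (hn : n ≤ 248) (hb : bndR n e₀ = true) (hs : svR n Y cls = true) (hbS : bndS e₀ = true)
    (hsS : svS Y cls = true) (he₀ : Cls e₀) (hmem : e₀ ∈ cls) (hle : ∀ q, ncl e₀ q ≤ 600000 → q ≤ 7)
    (hp : p.Prime) (hf : 1 ≤ f) {F : Type} [Field F] [CharP F p] {S : Type} [Group S] [Finite S] [IsSimpleGroup S]
    (hna : ¬ IsMulCommutative S) (hK : IsKnownSimple' S) (hrep : Fth n F S)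
    (hcls : ∀ e ∈ cls, ncl e (p ^ f) ∣ Nat.card S) (hd : Nat.card S ∣ OL Y (p ^ f))
    {e e' : ℕ} (he : e ∈ cls) (he' : e' ∈ cls) (hcl : Cls e) (hcl' : Cls e') (he7 : 7 ≤ e) (he7' : 7 ≤ e')
    (hd4 : ncl e (p ^ f) + 4 ≤ ncl e' (p ^ f) ∨ ncl e' (p ^ f) + 4 ≤ ncl e (p ^ f))
    (hcyc : ∀ r, Prim (p ^ f) e r ∨ Prim (p ^ f) e' r → ∀ x : S, orderOf x = r → IsCyclic ↥(Subgroup.centralizer {x})) :
    ∃ g, IsNamed g S ∧ HasChar p g := by
  have hna' : ¬ ∀ a b : S, a * b = b * a := fun h => hna ⟨⟨h⟩⟩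
  have hq : 2 ≤ p ^ f := hp.two_le.trans (Nat.le_self_pow (by omega) p)
  obtain ⟨g, hgS⟩ := exists_named tb hK hna'
  rcases Cfsg.Agent.H192.Singer.cases_name hgS.cond with ⟨m, rfl⟩ | hsp | ⟨l, hl, hch⟩
  · exfalso
    obtain ⟨Φ⟩ : Nonempty (S ≃* alternatingGroup (Fin m)) := hgS.real
    have hm : 5 ≤ m := hgS.cond
    have hnil : ∀ r, Prim (p ^ f) e r ∨ Prim (p ^ f) e' r → ∀ x : S, orderOf x = r →
        Group.IsNilpotent (Subgroup.centralizer ({x} : Set S)) := by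
      intro r hr x hx
      have := hcyc r hr x hx
      let _ := IsCyclic.commGroup (α := ↥(Subgroup.centralizer ({x} : Set S)))
      infer_instance
    have h1 := window hq hcl he7 (by omega) Φ (hcls e he) fun r hr => hnil r (Or.inl hr)
    have h2 := window hq hcl' he7' (by omega) Φ (hcls e' he') fun r hr => hnil r (Or.inr hr)
    omega
  · exfalso
    have h1 := Cfsg.Agent.H192.Singer.spor_mem hsp
    have h2 : Nat.card S = ordN g := hgS.ord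
    exact no_spor hbS hsS he₀ hmem hle h1 hp hf (fun e he => by rw [← h2]; exact hcls e he) (by rw [← h2]; exact hd)
  · by_cases hpl : p = l
    · subst hpl
      exact ⟨g, hgS, hch⟩
    · exfalso
      obtain ⟨X, f₁, h1, h2, -⟩ := exists_lie hl hgS hch
      have hlF : (l : F) ≠ 0 := by
        intro h
        exact hpl ((Nat.prime_dvd_prime_iff_eq hp hl).1 ((CharP.cast_eq_zero_iff F p l).1 h))
      have h3 := lb_le hna' hn hrep h1 hgS.real h2 hlF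
      exact no_cross hn hb hs he₀ hmem hle h2 h3 hp hf hpl hcls hd

theorem coprime_of_prim {e q n : ℕ} (he : Cls e) (hq : 1 ≤ q) (h : ∀ r, Prim q e r → ¬ r ∣ n) : Nat.Coprime (ncl e q) n := by
  by_contra hcon
  obtain ⟨r, hr, h1, h2⟩ := Nat.Prime.not_coprime_iff_dvd.1 hcon
  exact h r (prim_of_dvd he hq hr h1) h2

theorem off_coprime {T : Type*} [Group T] {q : ℕ} {cls : List ℕ} {B : Subgroup T} (h : Off q cls B) {e : ℕ}
    (hm : e ∈ cls) (he : Cls e) (hq : 1 ≤ q) : Nat.Coprime (ncl e q) B.index :=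
  coprime_of_prim he hq (h e hm)

theorem off_ncl_dvd {T : Type*} [Group T] {q : ℕ} {cls : List ℕ} {B : Subgroup T} (h : Off q cls B) {e : ℕ}
    (hm : e ∈ cls) (he : Cls e) (hq : 1 ≤ q) (hT : ncl e q ∣ Nat.card T) : ncl e q ∣ Nat.card B := by
  rw [← B.index_mul_card] at hT
  exact (off_coprime h hm he hq).dvd_of_dvd_mul_left hT

variable {fam : List ℕ} {M E : ℕ → ℕ}

/-- the tables needed for a shape `Y` and the classes `cls` in dimension `n` -/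
structure Tbl (n : ℕ) (Y : Art.Sh) (cls : List ℕ) (e₀ : ℕ) : Prop where
  hn : n ≤ 248
  hb : bndR n e₀ = true
  hs : svR n Y cls = true
  hbS : bndS e₀ = true
  hsS : svS Y cls = true
  he₀ : Cls e₀
  hmem : e₀ ∈ cls
  hle : ∀ q, ncl e₀ q ≤ 600000 → q ≤ 7

/-- the family of big primes of a subgroup -/
theorem rfam_of {T : Type*} [Group T] [Finite T] (hp : p.Prime) (hf : 1 ≤ f)
    (hcl : ∀ c ∈ fam, Cls c) (h7 : ∀ c ∈ fam, 7 ≤ c)
    (hbig : ∀ c ∈ fam, ∀ r, Prim (p ^ f) c r → Big T r (M c) (E c)) (hM : ∀ c ∈ fam, M c ∣ (p ^ f) ^ c - 1)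
    (hE : ∀ c ∈ fam, ∀ s, s.Prime → s ∣ E c → s ≤ 7) (hsep : ∀ c ∈ fam, ∃ c' ∈ fam, ¬ c' ∣ c)
    (hnT : ∀ c ∈ fam, ncl c (p ^ f) ∣ Nat.card T) {B : Subgroup T} (hoff : Off (p ^ f) fam B) :
    RFam ↥B (Fm (p ^ f) fam M E) where
  big := by
    rintro r m e ⟨c, hc, h, rfl, rfl⟩
    exact (hbig c hc r h).subgroup B
  dvd := by
    rintro r m e ⟨c, hc, h, rfl, rfl⟩
    have hq : 1 ≤ p ^ f := Nat.one_le_pow _ _ hp.pos
    exact (dvd_ncl (hcl c hc) hq h).trans (off_ncl_dvd hoff hc (hcl c hc) hq (hnT c hc))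
  sep := by
    rintro r m e ⟨c, hc, h, rfl, rfl⟩ hcon
    have hq2 : 2 ≤ p ^ f := hp.two_le.trans (Nat.le_self_pow (by omega) p)
    obtain ⟨c', hc', hcc⟩ := hsep c hc
    obtain ⟨s, hs⟩ := exists_prim hq2 (show 3 ≤ c' by have := h7 c' hc'; omega) (by have := h7 c' hc'; omega)
    have h1 : s ∣ Nat.card B :=
      (dvd_ncl (hcl c' hc') (by omega) hs).trans (off_ncl_dvd hoff hc' (hcl c' hc') (by omega) (hnT c' hc'))
    rcases hs.prime.dvd_mul.1 (h1.trans hcon) with h2 | h2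
    · have h3 := hE c hc s hs.prime h2
      have h4 := lt_of_prim hq2 (by have := h7 c' hc'; omega) hs
      have := h7 c' hc'
      omega
    · exact hcc ((hs.dvd_iff c).1 (h2.trans (hM c hc)))

/-- **The simple normal subgroup.** -/
theorem core (tb : OrderTable.{0}) (hcyc : CycFixSolv.{0})
    (hcfsg : ∀ (S : Type) [Group S] [Finite S] [IsSimpleGroup S], IsKnownSimple' S)
    (ht : Tbl n Y cls e₀) (hsub : ∀ c ∈ cls, c ∈ fam) {e e' : ℕ} (hee : e ∈ cls) (hee' : e' ∈ cls)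
    (hd4 : ncl e (p ^ f) + 4 ≤ ncl e' (p ^ f) ∨ ncl e' (p ^ f) + 4 ≤ ncl e (p ^ f))
    (hcl : ∀ c ∈ fam, Cls c) (h7 : ∀ c ∈ fam, 7 ≤ c)
    (hp : p.Prime) (hf : 1 ≤ f) {F : Type} [Field F] [CharP F p]
    {T : Type} [Group T] [Finite T] (hrep : Fth n F T) (hdT : Nat.card T ∣ OL Y (p ^ f))
    (hbig : ∀ c ∈ fam, ∀ r, Prim (p ^ f) c r → Big T r (M c) (E c)) (hM : ∀ c ∈ fam, M c ∣ (p ^ f) ^ c - 1)
    (hE : ∀ c ∈ fam, ∀ s, s.Prime → s ∣ E c → s ≤ 7) (hsep : ∀ c ∈ fam, ∃ c' ∈ fam, ¬ c' ∣ c)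
    (hnT : ∀ c ∈ fam, ncl c (p ^ f) ∣ Nat.card T)
    {c₀ r₀ : ℕ} (hc₀ : c₀ ∈ fam) (hr₀ : Prim (p ^ f) c₀ r₀) (hpiso : PIso p r₀ T)
    {B : Subgroup T} (hoff : Off (p ^ f) fam B)
    (hgood : ∀ t : ℕ, t.Prime → t ≠ p → (∀ c ∈ fam, ¬ Prim (p ^ f) c t) → t ∣ Nat.card B → Good B n t) :
    ∃ (S : Subgroup B) (_ : S.Normal) (_ : IsSimpleGroup S), ¬ IsMulCommutative S ∧
      (∀ c ∈ fam, ncl c (p ^ f) ∣ Nat.card S) ∧ (∀ c ∈ fam, S.index ∣ E c * M c) ∧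
      (∀ c ∈ fam, ∀ r, Prim (p ^ f) c r → Big S r (M c) (E c) ∧ ¬ r ∣ S.index ∧ r ∣ Nat.card S) ∧
      ∃ g, IsNamed g S ∧ HasChar p g := by
  have := Fact.mk hp
  have hq2 : 2 ≤ p ^ f := hp.two_le.trans (Nat.le_self_pow (by omega) p)
  have hq1 : 1 ≤ p ^ f := by omega
  have hrf := rfam_of hp hf hcl h7 hbig hM hE hsep hnT hoff
  obtain ⟨τ, hτ⟩ := hrep.sub B.subtype B.subtype_injective
  have hr₀B : r₀ ∣ Nat.card B :=
    (dvd_ncl (hcl c₀ hc₀) hq1 hr₀).trans (off_ncl_dvd hoff hc₀ (hcl c₀ hc₀) hq1 (hnT c₀ hc₀))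
  have hred : Red ↥B (Pr (Fm (p ^ f) fam M E)) := by
    refine red_of hcyc hτ (fun A hA hAp => pcore_of_piso (hpiso.sub B) hr₀B A hA hAp)
      (pr_fm.2 ⟨c₀, hc₀, hr₀⟩) hr₀.prime hr₀B
      (fun x hx => ((hbig c₀ hc₀ r₀ hr₀).subgroup B).cyc x hx) fun t ht htp htn htB => ?_
    rw [Fintype.card_fin]
    exact hgood t ht htp (fun c hc h => htn (pr_fm.2 ⟨c, hc, h⟩)) htB
  obtain ⟨S, hSn, hSs, hSna, hS⟩ :=
    hrf.exists_full hcyc hred (r₁ := r₀) (m₁ := M c₀) (e₁ := E c₀) ⟨c₀, hc₀, hr₀, rfl, rfl⟩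
  have hall : ∀ c ∈ fam, ∀ r, Prim (p ^ f) c r →
      Big S r (M c) (E c) ∧ r ∣ Nat.card S ∧ ¬ r ∣ S.index ∧ S.index ∣ E c * M c :=
    fun c hc r h => hS r (M c) (E c) ⟨c, hc, h, rfl, rfl⟩
  have hnS : ∀ c ∈ fam, ncl c (p ^ f) ∣ Nat.card S := by
    intro c hc
    have h1 := off_ncl_dvd hoff hc (hcl c hc) hq1 (hnT c hc)
    rw [← S.index_mul_card] at h1
    exact (coprime_of_prim (hcl c hc) hq1 fun r h => (hall c hc r h).2.2.1).dvd_of_dvd_mul_left h1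
  have hSs' : IsSimpleGroup S := hSs
  refine ⟨S, hSn, hSs, hSna, hnS, fun c hc => ?_, fun c hc r h => ⟨(hall c hc r h).1, (hall c hc r h).2.2.1,
    (hall c hc r h).2.1⟩, ?_⟩
  · obtain ⟨r, hr⟩ := exists_prim hq2 (show 3 ≤ c by have := h7 c hc; omega) (by have := h7 c hc; omega)
    exact (hall c hc r hr).2.2.2
  · have hdS : Nat.card S ∣ OL Y (p ^ f) :=
      ((Subgroup.card_subgroup_dvd_card S).trans (Subgroup.card_subgroup_dvd_card B)).trans hdT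
    refine exists_name tb ht.hn ht.hb ht.hs ht.hbS ht.hsS ht.he₀ ht.hmem ht.hle hp hf hSna (hcfsg S)
      ((hrep.sub B.subtype B.subtype_injective).sub S.subtype S.subtype_injective) (fun c hc => hnS c (hsub c hc)) hdS
      hee hee' (hcl e (hsub e hee)) (hcl e' (hsub e' hee')) (h7 e (hsub e hee)) (h7 e' (hsub e' hee')) hd4 ?_
    · rintro r (h | h) x hx
      · exact (hall e (hsub e hee) r h).1.cyc x hx
      · exact (hall e' (hsub e' hee') r h).1.cyc x hx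


theorem ord_free {G : Type*} [Group G] [Finite G] {q e N t : ℕ} (h : Ord G q e N) (he : Cls e) (hq : 1 ≤ q)
    (ht : t.Prime) (hN : ¬ t ∣ N) : Free G t (ncl e q) := by
  intro x hx hxm a ha hc
  have h1 := h _ (prim_of_dvd he hq hx hxm) x rfl
  have h2 : a ∈ Subgroup.centralizer ({x} : Set G) := Subgroup.mem_centralizer_singleton_iff.2 hc.symm
  have h3 : orderOf a ∣ N := by
    have h4 : orderOf (⟨a, h2⟩ : ↥(Subgroup.centralizer ({x} : Set G))) = orderOf a := by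
      rw [← Subgroup.orderOf_coe]
    rw [← h4]
    exact (orderOf_dvd_natCard _).trans h1
  have h4 : orderOf a ∣ t := orderOf_dvd_of_pow_eq_one ha
  rcases (Nat.dvd_prime ht).1 h4 with h5 | h5
  · rwa [orderOf_eq_one_iff] at h5
  · rw [h5] at h3
    exact absurd h3 hN

/-- a prime dividing `ncl e q` is of class `e` -/
theorem not_dvd_of_not_prim {q e t : ℕ} (he : Cls e) (hq : 1 ≤ q) (ht : t.Prime) (h : ¬ Prim q e t) : ¬ t ∣ ncl e q :=
  fun h1 => h (prim_of_dvd he hq ht h1)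

/-- the case of a large class -/
theorem good_one {G : Type*} [Group G] [Finite G] {q e N t n : ℕ} (h : Ord G q e N) (he : Cls e) (hq : 1 ≤ q)
    (ht : t.Prime) (hN : ¬ t ∣ N) (hn : n < ncl e q) (hG : ncl e q ∣ Nat.card G) : Good G n t :=
  ⟨ncl e q, hG, ord_free h he hq ht hN, Or.inl hn⟩

/-- **`E₈(q)`, the class 30.** -/
theorem good_E8 {G : Type*} [Group G] [Finite G] {q n : ℕ} (hn : n ≤ 248) (hq : 2 ≤ q) (h30 : Ord G q 30 (Ph 30 q))
    (g30 : ncl 30 q ∣ Nat.card G) {t : ℕ} (ht : t.Prime) (ht30 : ¬ Prim q 30 t) : Good G n t := by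
  have hq1 : 1 ≤ q := by omega
  have c30 : Cls 30 := by unfold Cls; omega
  have h1 := not_dvd_of_not_prim c30 hq1 ht ht30
  rw [← ncl30_eq] at h30
  exact good_one h30 c30 hq1 ht h1 (lt_of_le_of_lt hn (ncl30_gt hq)) g30

theorem Ph_dvd {e q : ℕ} (he : Cls e) (hq : 1 ≤ q) : Ph e q ∣ q ^ e - 1 := by
  rcases he with rfl | rfl | rfl
  · exact dvd_of_cast (c := ((q : ℤ) ^ 2 + 1) * ((q : ℤ) ^ 10 - 1)) (by rw [cast_sub_one hq, cast_Ph20 _ hq]; ring)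
  · exact dvd_of_cast (c := ((q : ℤ) ^ 4 + 1) * ((q : ℤ) ^ 12 - 1)) (by rw [cast_sub_one hq, cast_Ph24 _ hq]; ring)
  · exact dvd_of_cast (c := ((q : ℤ) ^ 15 - 1) * ((q : ℤ) ^ 3 + 1) * ((q : ℤ) ^ 4 - (q : ℤ) ^ 3 + (q : ℤ) ^ 2 - (q : ℤ) + 1))
      (by rw [cast_sub_one hq, cast_Ph30 _ hq]; ring)

/-- `ncl e q` divides the order if it divides the numerator -/
theorem ncl_dvd_card {e d c N q : ℕ} (he : Cls e) (h7 : 7 ≤ e) (hq : 2 ≤ q) (hd0 : 0 < d) (hd : d ≤ 6) (h : d * c = N)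
    (hN : ncl e q ∣ N) : ncl e q ∣ c := by
  rw [← h] at hN
  refine (coprime_of_prim he (by omega) fun r hr hrd => ?_).dvd_of_dvd_mul_left hN
  have h1 := lt_of_prim hq (by omega) hr
  have h2 := Nat.le_of_dvd hd0 hrd
  omega

/-- the numbers are at distance at least four -/
theorem dist_24_30 {q : ℕ} (hq : 2 ≤ q) : ncl 24 q + 4 ≤ ncl 30 q := by
  rw [ncl24_eq, ncl30_eq]
  have h1 := Ph30_ge hq
  have p2 : Ph 24 q = (q ^ 8 + 1) - q ^ 4 := rfl
  have h2 : 2 ^ 4 ≤ q ^ 4 := Nat.pow_le_pow_left hq 4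
  have h3 : q ^ 4 ≤ q ^ 8 := Nat.pow_le_pow_right (by omega) (by norm_num)
  omega

theorem dist_20_30 {q : ℕ} (hq : 2 ≤ q) : ncl 20 q + 4 ≤ ncl 30 q := by
  rw [ncl30_eq]
  have h0 : ncl 20 q ≤ Ph 20 q := Nat.le_of_dvd (Ph_pos 20 (by omega)) (ncl_dvd_Ph 20 q)
  have h1 := Ph30_ge hq
  have p2 : Ph 20 q = (q ^ 8 + q ^ 4 + 1) - (q ^ 6 + q ^ 2) := rfl
  have h2 : 2 ^ 2 ≤ q ^ 2 := Nat.pow_le_pow_left hq 2
  have h3 : 4 * q ^ 4 ≤ q ^ 6 := by
    have : q ^ 6 = q ^ 2 * q ^ 4 := by ring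
    rw [this]
    exact Nat.mul_le_mul_right _ h2
  have h4 : 4 * q ^ 2 ≤ q ^ 4 := by
    have : q ^ 4 = q ^ 2 * q ^ 2 := by ring
    rw [this]
    exact Nat.mul_le_mul_right _ h2
  have h5 : q ^ 6 ≤ q ^ 8 := Nat.pow_le_pow_right (by omega) (by norm_num)
  omega

end Cfsg.Agent.H290.Cov30
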