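import Cfsg.Agent.H278.Cov.Defs
import Cfsg.Agent.H563.KG.Core

/-!
# Generators of tori and the index (helper290)

`off_of_mem` : a subgroup containing a conjugate of an element of order `m`, `|T| = m K` with `K` prime to the primes of
class `e`, has index prime to the primes of class `e`;
`noTwo_of_off` : three classes of tori, no two of which can be avoided by the index of a proper subgroup.
-/

set_option autoImplicit false

namespace Cfsg.Agent.H290.Cov30

open Cfsg.Agent.H436 (Prim)
open Cfsg.Agent.H278.Cov Cfsg.Agent.H563.KG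

theorem off_of_mem {T : Type*} [Group T] [Finite T] {q e m : ℕ} {K : ℤ} (hG : (Nat.card T : ℤ) = m * K)
    (hK : ∀ r, Prim q e r → (K : ZMod r) ≠ 0) {x : T} (hx : orderOf x = m) {B : Subgroup T} {g : T}
    (hB : g * x * g⁻¹ ∈ B) : ∀ r, Prim q e r → ¬ r ∣ B.index := by
  intro r hr hd
  have h1 : orderOf (g * x * g⁻¹) = m := by
    rw [← hx]
    exact orderOf_injective (MulAut.conj g).toMonoidHom (MulAut.conj g).injective x
  have h2 : m ∣ Nat.card B := by
    rw [← h1, ← Subgroup.orderOf_mk _ hB]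
    exact orderOf_dvd_natCard _
  obtain ⟨k, hk⟩ := h2
  have h3 : (m : ℤ) * (k * B.index) = m * K := by
    rw [← hG, ← B.card_mul_index, hk]
    push_cast
    ring
  have hm0 : (m : ℤ) ≠ 0 := by
    intro h0
    rw [h0, zero_mul] at hG
    exact Nat.card_pos.ne' (by exact_mod_cast hG)
  have h4 := mul_left_cancel₀ hm0 h3
  apply hK r hr
  rw [← h4]
  push_cast
  rw [(ZMod.natCast_eq_zero_iff B.index r).2 hd, mul_zero]

/-- two classes -/
theorem inc_of_off {T : Type*} [Group T] {q e e' : ℕ} {x y : T}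
    (hx : ∀ (B : Subgroup T) (g : T), g * x * g⁻¹ ∈ B → ∀ r, Prim q e r → ¬ r ∣ B.index)
    (hy : ∀ (B : Subgroup T) (g : T), g * y * g⁻¹ ∈ B → ∀ r, Prim q e' r → ¬ r ∣ B.index)
    (hK : ∀ B : Subgroup T, Off q [e, e'] B → B = ⊤) : Inc x y := by
  intro B hB
  by_contra hcon
  push Not at hcon
  obtain ⟨g, hg⟩ := not_av hcon.1
  obtain ⟨g', hg'⟩ := not_av hcon.2
  apply hB
  apply hK
  intro c hc
  simp only [List.mem_cons, List.not_mem_nil, or_false] at hc
  rcases hc with rfl | rfl
  · exact hx B g hg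
  · exact hy B g' hg'

end Cfsg.Agent.H290.Cov30
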