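import Cfsg.Agent.H290.Cov.KE8
import Cfsg.Agent.H290.Cov.Off

/-!
# `E₈(q)` is not the union of the conjugates of two proper subgroups (helper290)

Generators of the tori of orders `Φ₂₀(q)`, `Φ₂₄(q)`, `Φ₃₀(q)`.
-/

set_option autoImplicit false

namespace Cfsg.Agent.H290.Cov30

open Cfsg Cfsg.Agent.OrdDiv Cfsg.Agent.H436 Cfsg.Agent.H563.KG Cfsg.Agent.H278.Cov Cfsg.Agent.H56.Exc

/-- a generator of the torus -/
theorem exists_gen {T : Type*} [Group T] {r m : ℕ} (h : Cfsg.Agent.H129.CycCard.CycCard T r m 1) : ∃ x : T, orderOf x = m := by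
  obtain ⟨C, hC, h1, h2, -, -⟩ := h
  have h3 : Nat.card C = m := Nat.dvd_antisymm h1 (by simpa using h2)
  obtain ⟨x, hx⟩ := hC.exists_generator
  refine ⟨(x : T), ?_⟩
  rw [Subgroup.orderOf_coe, ← h3, orderOf_eq_card_of_forall_mem_zpowers hx]

section E8

variable {F : Type} [Field F] [Fintype F]

/-- the generators -/
theorem exists_E8 {c : ℕ} (hc : c = 20 ∨ c = 24 ∨ c = 30) : ∃ x : ↥(Lie.chevE8.group F),
    ∀ (B : Subgroup ↥(Lie.chevE8.group F)) (g : ↥(Lie.chevE8.group F)), g * x * g⁻¹ ∈ B →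
      ∀ r, Prim (Fintype.card F) c r → ¬ r ∣ B.index := by
  have hq2 : 2 ≤ Fintype.card F := Fintype.one_lt_card
  have hq1 : 1 ≤ Fintype.card F := by omega
  obtain ⟨r, hr⟩ := exists_prim hq2 (show 3 ≤ c by omega) (by omega)
  have hfin : Finite ↥(Lie.chevE8.group F) := inferInstance
  generalize hq : Fintype.card F = q at *
  have hm20 : ((Ph 20 q : ℕ) : ℤ) = 1 - (q : ℤ) ^ 2 + (q : ℤ) ^ 4 - (q : ℤ) ^ 6 + (q : ℤ) ^ 8 := by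
    rw [cast_Ph20 _ hq1]; ring
  have hm24 : ((Ph 24 q : ℕ) : ℤ) = 1 - (q : ℤ) ^ 4 + (q : ℤ) ^ 8 := by
    rw [cast_Ph24 _ hq1]; ring
  have hm30 : ((Ph 30 q : ℕ) : ℤ) = 1 + (q : ℤ) - (q : ℤ) ^ 3 - (q : ℤ) ^ 4 - (q : ℤ) ^ 5 + (q : ℤ) ^ 7 + (q : ℤ) ^ 8 := by
    rw [cast_Ph30 _ hq1]; ring
  have nz : ∀ {κ s : ℕ}, 0 < κ → κ < s → ((κ : ℕ) : ZMod s) ≠ 0 := fun h0 h1 h => by
    have := Nat.le_of_dvd h0 ((ZMod.natCast_eq_zero_iff _ _).1 h)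
    omega
  rcases hc with rfl | rfl | rfl
  · have h5 : r ≠ 5 := by
      have := lt_of_prim hq2 (by norm_num) hr
      omega
    obtain ⟨x, hx⟩ := exists_gen (Cfsg.Agent.H129.CycCard.card_E8_20 hq hm20 hr.prime (prim_dvd_20 hr) h5)
    refine ⟨x, fun B g hB => off_of_mem (K := (q : ℤ) ^ 120 * ((q : ℤ) ^ 2 - 1) * ((q : ℤ) ^ 8 - 1) *
      ((q : ℤ) ^ 12 - 1) * ((q : ℤ) ^ 14 - 1) * ((q : ℤ) ^ 18 - 1) * ((q : ℤ) ^ 24 - 1) * ((q : ℤ) ^ 10 - 1) *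
      ((q : ℤ) ^ 2 + 1) * ((q : ℤ) ^ 30 - 1)) ?_ (fun s hs => ?_) hx hB⟩
    · rw [ord_E8 hq, hm20]; ring
    · have h1 := Kap.kap_E8_20 (q : ZMod s) (prim_phi_20 hs)
      push_cast
      rw [h1]
      have := nz (show 0 < 20 by norm_num) (lt_of_prim hq2 (by norm_num) hs)
      exact_mod_cast this
  · obtain ⟨x, hx⟩ := exists_gen (Cfsg.Agent.H129.CycCard.card_E8_24 hq hm24 hr.prime (prim_dvd_24 hr))
    refine ⟨x, fun B g hB => off_of_mem (K := (q : ℤ) ^ 120 * ((q : ℤ) ^ 2 - 1) * ((q : ℤ) ^ 8 - 1) *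
      ((q : ℤ) ^ 12 - 1) * ((q : ℤ) ^ 14 - 1) * ((q : ℤ) ^ 18 - 1) * ((q : ℤ) ^ 20 - 1) * ((q : ℤ) ^ 12 - 1) *
      ((q : ℤ) ^ 4 + 1) * ((q : ℤ) ^ 30 - 1)) ?_ (fun s hs => ?_) hx hB⟩
    · rw [ord_E8 hq, hm24]; ring
    · have h1 := Kap.kap_E8_24 (q : ZMod s) (prim_phi_24 hs)
      push_cast
      rw [h1]
      have := nz (show 0 < 24 by norm_num) (lt_of_prim hq2 (by norm_num) hs)
      exact_mod_cast this
  · obtain ⟨x, hx⟩ := exists_gen (Cfsg.Agent.H129.CycCard.card_E8_30 hq hm30 hr.prime (prim_dvd_30 hr))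
    refine ⟨x, fun B g hB => off_of_mem (K := (q : ℤ) ^ 120 * ((q : ℤ) ^ 2 - 1) * ((q : ℤ) ^ 8 - 1) *
      ((q : ℤ) ^ 12 - 1) * ((q : ℤ) ^ 14 - 1) * ((q : ℤ) ^ 18 - 1) * ((q : ℤ) ^ 20 - 1) * ((q : ℤ) ^ 24 - 1) *
      ((q : ℤ) ^ 5 + 1) * ((q : ℤ) ^ 2 - (q : ℤ) + 1) * ((q : ℤ) ^ 15 - 1)) ?_ (fun s hs => ?_) hx hB⟩
    · rw [ord_E8 hq, hm30]; ring
    · have h1 := Kap.kap_E8_30 (q : ZMod s) (prim_phi_30 hs)
      push_cast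
      rw [h1]
      have := nz (show 0 < 30 by norm_num) (lt_of_prim hq2 (by norm_num) hs)
      exact_mod_cast this

theorem noTwo_chevE8 (tb : OrderTable.{0}) (hcyc : CycFixSolv.{0}) (hcf : CF) : NoTwo ↥(Lie.chevE8.group F) := by
  obtain ⟨x, hx⟩ := exists_E8 (F := F) (Or.inl rfl)
  obtain ⟨y, hy⟩ := exists_E8 (F := F) (Or.inr (Or.inl rfl))
  obtain ⟨z, hz⟩ := exists_E8 (F := F) (Or.inr (Or.inr rfl))
  refine noTwo_of_three (x := x) (y := y) (z := z) ?_ ?_ ?_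
  · exact inc_of_off hx hy fun B hB => K_E8 tb hcyc hcf B hB
  · exact inc_of_off hy hz fun B hB => K_E8a tb hcyc hcf B hB
  · exact inc_of_off hx hz fun B hB => K_E8b tb hcyc hcf B hB

end E8

/-- **`E₈(q)`.** -/
theorem noTwo_e8 (tb : OrderTable.{0}) (hcyc : CycFixSolv.{0}) (hcf : CF) {q : ℕ} {T : Type*} [Group T]
    (h : IsNamed (.e8 q) T) : NoTwo T := by
  obtain ⟨F, _, _, rfl, ⟨e⟩⟩ := h.real
  exact (noTwo_chevE8 (F := F) tb hcyc hcf).congr e.symm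

end Cfsg.Agent.H290.Cov30
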