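import Mathlib
import Cfsg.Agent.H325.Same.KillOm
import Cfsg.Agent.H325.Same.KillPSL

/-!
# Elements of `PSL_n(K)` fixing vectors normalise `p`-subgroups (helper290)

`not_piso_psl`: a prime dividing the order of `PSL_n(K)` and not `|K|^n - 1` is not isolated.
-/

set_option autoImplicit false

namespace Cfsg.Agent.H290.Cov30

open Cfsg Cfsg.Agent.H325.Loc Cfsg.Agent.H325.Same Matrix

variable {K : Type*} [Field K] {n : ℕ}

/-- the transvection `x ↦ x + (w ⬝ x) u` -/
def tv (u w : Fin n → K) (h : w ⬝ᵥ u = 0) : SpecialLinearGroup (Fin n) K :=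
  ⟨1 + vecMulVec u w, by
    rw [vecMulVec_eq Unit, det_one_add_replicateCol_mul_replicateRow, h, add_zero]⟩

theorem tv_coe (u w : Fin n → K) (h : w ⬝ᵥ u = 0) : (tv u w h : Matrix (Fin n) (Fin n) K) = 1 + vecMulVec u w := rfl

theorem vmv_mul (u w w' : Fin n → K) (h : w ⬝ᵥ u = 0) : vecMulVec u w * vecMulVec u w' = 0 := by
  rw [vecMulVec_mul_vecMulVec, h, zero_smul, vecMulVec_zero]

/-- the vectors orthogonal to `u` -/
def Ort (u : Fin n → K) : AddSubgroup (Fin n → K) where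
  carrier := {w | w ⬝ᵥ u = 0}
  zero_mem' := by simp
  add_mem' := by
    intro a b ha hb
    show (a + b) ⬝ᵥ u = 0
    rw [add_dotProduct, show a ⬝ᵥ u = 0 from ha, show b ⬝ᵥ u = 0 from hb, add_zero]
  neg_mem' := by
    intro a ha
    show (-a) ⬝ᵥ u = 0
    rw [neg_dotProduct, show a ⬝ᵥ u = 0 from ha, neg_zero]

/-- the homomorphism -/
def TV (u : Fin n → K) : Multiplicative (Ort u) →* SpecialLinearGroup (Fin n) K where
  toFun w := tv u (w.toAdd : Fin n → K) w.toAdd.2
  map_one' := by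
    apply Subtype.ext
    show 1 + vecMulVec u (0 : Fin n → K) = 1
    rw [vecMulVec_zero, add_zero]
  map_mul' w w' := by
    apply Subtype.ext
    show 1 + vecMulVec u ((w.toAdd : Fin n → K) + (w'.toAdd : Fin n → K)) =
      (1 + vecMulVec u (w.toAdd : Fin n → K)) * (1 + vecMulVec u (w'.toAdd : Fin n → K))
    rw [mul_add, mul_one, add_mul, one_mul, vmv_mul u _ _ w.toAdd.2, add_zero, vecMulVec_add, add_assoc]

theorem pgroup_ort {p : ℕ} [Fact p.Prime] [CharP K p] (u : Fin n → K) : IsPGroup p (Multiplicative (Ort u)) := by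
  intro g
  refine ⟨1, ?_⟩
  rw [pow_one]
  apply Multiplicative.toAdd.injective
  rw [toAdd_pow, toAdd_one]
  apply Subtype.ext
  funext i
  show (p • (g.toAdd : Fin n → K)) i = 0
  rw [Pi.smul_apply, nsmul_eq_mul, CharP.cast_eq_zero, zero_mul]

theorem c_mul (a b : SpecialLinearGroup (Fin n) K) : (a * b).1 = a.1 * b.1 := rfl
theorem c_one : (1 : SpecialLinearGroup (Fin n) K).1 = 1 := rfl

theorem c_inv_mul (y : SpecialLinearGroup (Fin n) K) : (y⁻¹).1 * y.1 = 1 := by
  rw [← c_mul, inv_mul_cancel]; rfl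

/-- an `r`-element fixes a nonzero vector -/
theorem exists_fix [Fintype K] {r k : ℕ} [Fact r.Prime] {y : SpecialLinearGroup (Fin n) K} (hk : y ^ r ^ k = 1)
    (hc : ¬ r ∣ Fintype.card K ^ n - 1) : ∃ u : Fin n → K, u ≠ 0 ∧ y.1 *ᵥ u = u := by
  classical
  let f : Function.End (Fin n → K) := fun v => y.1 *ᵥ v
  have hfk : ∀ (k : ℕ) (v : Fin n → K), (f ^ k) v = (y ^ k).1 *ᵥ v := by
    intro k
    induction k with
    | zero =>
      intro v
      show v = (1 : Matrix (Fin n) (Fin n) K) *ᵥ v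
      rw [one_mulVec]
    | succ k ih =>
      intro v
      have h1 : (f ^ (k + 1)) v = f ((f ^ k) v) := by rw [pow_succ']; rfl
      have h2 : (y ^ (k + 1)).1 = y.1 * (y ^ k).1 := by rw [pow_succ']; rfl
      rw [h1, h2, ← mulVec_mulVec, ← ih]
  have hf : f ^ r ^ k = 1 := by
    funext w
    rw [hfk, hk]
    show (1 : Matrix (Fin n) (Fin n) K) *ᵥ w = w
    rw [one_mulVec]
  have h1 := Equiv.Perm.card_fixedPoints_modEq (p := r) (n := k) hf
  by_contra hcon
  push Not at hcon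
  have h2 : Fintype.card (Function.fixedPoints f) = 1 := by
    rw [Fintype.card_eq_one_iff]
    refine ⟨⟨0, mulVec_zero _⟩, ?_⟩
    rintro ⟨v, hv⟩
    apply Subtype.ext
    by_contra hv0
    exact hcon v hv0 hv
  rw [h2] at h1
  apply hc
  have h3 : Fintype.card (Fin n → K) = Fintype.card K ^ n := by
    rw [Fintype.card_fun, Fintype.card_fin]
  rw [h3] at h1
  exact (Nat.modEq_iff_dvd' (Nat.one_le_pow _ _ Fintype.card_pos)).1 h1.symm

/-- **A prime dividing `|PSL_n(K)|` and not `|K|^n - 1` is not isolated.** -/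
theorem not_piso_psl [Finite K] (hn : 2 ≤ n) {p r : ℕ} [hpf : Fact p.Prime] [CharP K p] (hr : r.Prime)
    (hd : r ∣ Nat.card (ProjectiveSpecialLinearGroup (Fin n) K)) (hc : ¬ r ∣ Nat.card K ^ n - 1) :
    ¬ PIso p r (ProjectiveSpecialLinearGroup (Fin n) K) := by
  intro hP
  have : Fact r.Prime := ⟨hr⟩
  have := Fintype.ofFinite K
  let φ : SpecialLinearGroup (Fin n) K →* ProjectiveSpecialLinearGroup (Fin n) K := QuotientGroup.mk' _
  obtain ⟨y, k, hk, hy⟩ := exists_lift hr (φ := φ) (QuotientGroup.mk'_surjective _) hd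
  obtain ⟨u, hu0, hu⟩ := exists_fix hk (by rwa [Nat.card_eq_fintype_card] at hc)
  obtain ⟨i, hi⟩ : ∃ i, u i ≠ 0 := by
    by_contra h
    push Not at h
    exact hu0 (funext h)
  obtain ⟨j, hji⟩ : ∃ j : Fin n, j ≠ i := by
    have : Nontrivial (Fin n) := Fin.nontrivial_iff_two_le.2 hn
    exact exists_ne i
  -- a nonzero vector orthogonal to `u`
  let w : Fin n → K := Pi.single i (u j) - Pi.single j (u i)
  have hwu : w ⬝ᵥ u = 0 := by
    show (Pi.single i (u j) - Pi.single j (u i)) ⬝ᵥ u = 0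
    rw [sub_dotProduct, single_dotProduct, single_dotProduct, mul_comm, sub_self]
  have hwj : w j ≠ 0 := by
    show (Pi.single i (u j) - Pi.single j (u i) : Fin n → K) j ≠ 0
    rw [Pi.sub_apply, Pi.single_eq_of_ne hji, Pi.single_eq_same, zero_sub]
    exact neg_ne_zero.2 hi
  refine kill_hom (p := p) (r := r) (pgroup_ort u) φ (TV u) y hy (v := Multiplicative.ofAdd ⟨w, hwu⟩) ?_ ?_ hP
  · intro h
    have h1 : TV u (Multiplicative.ofAdd ⟨w, hwu⟩) ∈ Subgroup.center (SpecialLinearGroup (Fin n) K) :=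
      (QuotientGroup.eq_one_iff _).1 h
    have h2 := offdiag_zero h1 hji.symm
    have h3 : (1 + vecMulVec u w : Matrix (Fin n) (Fin n) K) i j = 0 := h2
    rw [Matrix.add_apply, one_apply_ne hji.symm, vecMulVec_apply, zero_add] at h3
    exact mul_ne_zero hi hwj h3
  · intro w'
    have hinv : (y⁻¹).1 *ᵥ u = u := by
      conv_lhs => rw [← hu]
      rw [mulVec_mulVec, c_inv_mul, one_mulVec]
    have hmem : ((w'.toAdd : Fin n → K) ᵥ* (y⁻¹).1) ⬝ᵥ u = 0 := by
      rw [← dotProduct_mulVec, hinv]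
      exact w'.toAdd.2
    refine ⟨Multiplicative.ofAdd ⟨_, hmem⟩, ?_⟩
    apply Subtype.ext
    show y.1 * (1 + vecMulVec u (w'.toAdd : Fin n → K)) =
      (1 + vecMulVec u ((w'.toAdd : Fin n → K) ᵥ* (y⁻¹).1)) * y.1
    rw [mul_add, mul_one, add_mul, one_mul, mul_vecMulVec, hu, vecMulVec_mul, vecMul_vecMul, c_inv_mul, vecMul_one]

end Cfsg.Agent.H290.Cov30
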