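import Cfsg.Agent.H290.Cov.P30
import Cfsg.Agent.H325.Same.ExcF4

/-!
# Lie type groups in the characteristic of `E₈(q)` containing the classes {24, 30} or {20, 30} (helper290)
-/

set_option autoImplicit false

namespace Cfsg.Agent.H290.Cov30

open Cfsg.Agent.OrdDiv Cfsg.Agent.H436 Cfsg.Agent.H915.GN Cfsg.Agent.H264.GN Cfsg.Agent.H264.FKS Cfsg.Agent.H325.Same

variable {p f c : ℕ} {g : Grp}

theorem prB_five (q : ℕ) : prB q 5 = (q ^ 2 - 1) * ((q ^ 4 - 1) * ((q ^ 6 - 1) * ((q ^ 8 - 1) * (q ^ 10 - 1)))) := by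
  rw [prB_eq, Finset.prod_range_succ, Finset.prod_range_succ, Finset.prod_range_succ, Finset.prod_range_succ,
    Finset.prod_range_succ, Finset.prod_range_zero]
  norm_num only [one_mul]
  ring

theorem prB_three3 (q : ℕ) : prB q 3 = (q ^ 2 - 1) * ((q ^ 4 - 1) * (q ^ 6 - 1)) := by
  rw [prB_eq, Finset.prod_range_succ, Finset.prod_range_succ, Finset.prod_range_succ, Finset.prod_range_zero]
  norm_num only [one_mul]
  ring

theorem pow3 (p f k : ℕ) : (p ^ (f * 3)) ^ k = (p ^ f) ^ (3 * k) := by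
  rw [pow_mul p f 3, ← pow_mul]

theorem pow5 (p f k : ℕ) : (p ^ (f * 5)) ^ k = (p ^ f) ^ (5 * k) := by
  rw [pow_mul p f 5, ← pow_mul]

/-- the order of `E₈(q)` -/
theorem e8_dvd (hdvd : c ∣ num (.e8 (p ^ f))) : c ∣ (p ^ f) ^ 120 * (((p ^ f) ^ 2 - 1) * ((p ^ f) ^ 8 - 1) *
    ((p ^ f) ^ 12 - 1) * ((p ^ f) ^ 14 - 1) * ((p ^ f) ^ 18 - 1) * ((p ^ f) ^ 20 - 1) * ((p ^ f) ^ 24 - 1) *
    ((p ^ f) ^ 30 - 1)) := hdvd

/-- the classical groups over `q³` -/
theorem kill_q3 {D A : ℕ} (hp : p.Prime) (hf : 1 ≤ f) (hD0 : 0 < D) (hD : D ≤ 4) (h1 : D * c = A * prB (p ^ (f * 3)) 5)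
    (hdvd : c ∣ num (.e8 (p ^ f))) : False := by
  have hq : 2 ≤ p ^ f := hp.two_le.trans (Nat.le_self_pow (by omega) _)
  have hd := e8_dvd hdvd
  rw [prB_five, pow3, pow3, pow3, pow3, pow3] at h1
  norm_num only at h1
  generalize p ^ f = q at *
  have b2 := sub_pos' (d := 2) hq (by norm_num)
  have b8 := sub_pos' (d := 8) hq (by norm_num)
  have b12 := sub_pos' (d := 12) hq (by norm_num)
  have b14 := sub_pos' (d := 14) hq (by norm_num)
  have b18 := sub_pos' (d := 18) hq (by norm_num)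
  have b20 := sub_pos' (d := 20) hq (by norm_num)
  have b24 := sub_pos' (d := 24) hq (by norm_num)
  have b30 := sub_pos' (d := 30) hq (by norm_num)
  have hc0 : 0 < c := pos_of_dvd (by positivity) hd
  obtain ⟨s, hs⟩ := exists_prim (q := q) (e := 3) hq le_rfl (by omega)
  refine cancel_prime hs.prime (Z := (q ^ 12 - 1) * ((q ^ 18 - 1) * ((q ^ 24 - 1) * (q ^ 30 - 1)))) (by positivity) hc0
    (A := A) (x := q ^ 6 - 1) (D := D) (B := q ^ 120)
    (y := (q ^ 2 - 1) * (q ^ 8 - 1) * (q ^ 14 - 1) * (q ^ 20 - 1)) h1 (hd.trans (dvd_of_eq (by ring)))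
    (hs.dvd (by norm_num)) (fun h => ?_) (hs.not_dvd_pow _) (fun h => ?_)
  · have h9 := lt_of_prim hs
    have := Nat.le_of_dvd hD0 h
    have : s = 4 := by omega
    subst this
    exact absurd hs.prime (by norm_num)
  · rcases hs.prime.dvd_mul.1 h with h | h
    · rcases hs.prime.dvd_mul.1 h with h | h
      · rcases hs.prime.dvd_mul.1 h with h | h
        · exact hs.not_dvd_sub (by norm_num) h
        · exact hs.not_dvd_sub (by norm_num) h
      · exact hs.not_dvd_sub (by norm_num) h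
    · exact hs.not_dvd_sub (by norm_num) h

/-- the classical groups over `q⁵` -/
theorem kill_q5 {D A : ℕ} (hp : p.Prime) (hf : 1 ≤ f) (hD0 : 0 < D) (hD : D ≤ 4) (h1 : D * c = A * prB (p ^ (f * 5)) 3)
    (hdvd : c ∣ num (.e8 (p ^ f))) : False := by
  have hq : 2 ≤ p ^ f := hp.two_le.trans (Nat.le_self_pow (by omega) _)
  have hd := e8_dvd hdvd
  rw [prB_three3, pow5, pow5, pow5] at h1
  norm_num only at h1
  generalize p ^ f = q at *
  have b2 := sub_pos' (d := 2) hq (by norm_num)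
  have b8 := sub_pos' (d := 8) hq (by norm_num)
  have b12 := sub_pos' (d := 12) hq (by norm_num)
  have b14 := sub_pos' (d := 14) hq (by norm_num)
  have b18 := sub_pos' (d := 18) hq (by norm_num)
  have b20 := sub_pos' (d := 20) hq (by norm_num)
  have b24 := sub_pos' (d := 24) hq (by norm_num)
  have b30 := sub_pos' (d := 30) hq (by norm_num)
  have hc0 : 0 < c := pos_of_dvd (by positivity) hd
  obtain ⟨s, hs⟩ := exists_prim (q := q) (e := 5) hq (by norm_num) (by omega)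
  refine cancel_prime hs.prime (Z := (q ^ 20 - 1) * (q ^ 30 - 1)) (by positivity) hc0
    (A := A) (x := q ^ 10 - 1) (D := D) (B := q ^ 120)
    (y := (q ^ 2 - 1) * (q ^ 8 - 1) * (q ^ 12 - 1) * (q ^ 14 - 1) * (q ^ 18 - 1) * (q ^ 24 - 1)) h1
    (hd.trans (dvd_of_eq (by ring)))
    (hs.dvd (by norm_num)) (fun h => ?_) (hs.not_dvd_pow _) (fun h => ?_)
  · have h9 := lt_of_prim hs
    have := Nat.le_of_dvd hD0 h
    omega
  · rcases hs.prime.dvd_mul.1 h with h | h
    · rcases hs.prime.dvd_mul.1 h with h | h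
      · rcases hs.prime.dvd_mul.1 h with h | h
        · rcases hs.prime.dvd_mul.1 h with h | h
          · rcases hs.prime.dvd_mul.1 h with h | h
            · exact hs.not_dvd_sub (by norm_num) h
            · exact hs.not_dvd_sub (by norm_num) h
          · exact hs.not_dvd_sub (by norm_num) h
        · exact hs.not_dvd_sub (by norm_num) h
      · exact hs.not_dvd_sub (by norm_num) h
    · exact hs.not_dvd_sub (by norm_num) h

/-- **`E₈(q)`, classes 24 and 30.** -/
theorem charp_e8_2430 (hp : p.Prime) (hf : 1 ≤ f) (hg : Cond g) (hch : HasChar p g)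
    (hc : den g * c = num g) (hdvd : c ∣ num (.e8 (p ^ f))) (hs1 : HT p f 24 g c) (hs2 : HT p f 30 g c) :
    g = .e8 (p ^ f) ∨ g = .psl 5 (p ^ (f * 6)) ∨ g = .ominus 5 (p ^ (f * 3)) := by
  obtain ⟨f₁, hf₁, hfl, hK, hY⟩ := kd_all hp hg hch hc
  obtain ⟨i, hi, hei, hfM, h2, h1, h3, hYc⟩ := compP hp hf hg hch hf₁ hfl hK hY (td_e8 hp hf hdvd)
    (by norm_num) (by norm_num) (by norm_num) (fun i hi hei s hs h5 => by
      have hi' : i ∈ [2, 8, 12, 14, 18, 20, 24, 30] := hi
      refine hpr_aux ?_ hs (by omega)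
      simp only [List.mem_cons, List.not_mem_nil, or_false] at hi' ⊢
      omega) hs1 hs2
  have hi' : i ∈ [2, 8, 12, 14, 18, 20, 24, 30] := hi
  obtain rfl : i = 30 := by
    simp only [List.mem_cons, List.not_mem_nil, or_false] at hi'
    omega
  have hO := elimP_e8_24_30 hg hch h2 h1 h3 hYc
  cases g
  case psl m q =>
    obtain rfl : m = 5 := hO
    obtain rfl : q = p ^ f₁ := hfl
    have h5 : f₁ * 5 = f * 30 := hfM
    obtain rfl : f₁ = f * 6 := by omega
    exact Or.inr (Or.inl rfl)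
  case psp m q =>
    obtain rfl : m = 5 := hO
    obtain rfl : q = p ^ f₁ := hfl
    have h5 : f₁ * (2 * 5) = f * 30 := hfM
    obtain rfl : f₁ = f * 3 := by omega
    have h6 : Nat.gcd 2 (p ^ (f * 3) - 1) * c = (p ^ (f * 3)) ^ (5 ^ 2) * prB (p ^ (f * 3)) 5 := hc
    exact (kill_q3 hp hf (Nat.gcd_pos_of_pos_left _ (by norm_num))
      ((Nat.gcd_le_left _ (by norm_num)).trans (by norm_num)) h6 hdvd).elim
  case oodd m q =>
    obtain rfl : m = 5 := hO
    obtain rfl : q = p ^ f₁ := hfl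
    have h5 : f₁ * (2 * 5) = f * 30 := hfM
    obtain rfl : f₁ = f * 3 := by omega
    have h6 : 2 * c = (p ^ (f * 3)) ^ (5 ^ 2) * prB (p ^ (f * 3)) 5 := hc
    exact (kill_q3 hp hf (by norm_num) (by norm_num) h6 hdvd).elim
  case oplus m q =>
    obtain rfl : m = 6 := hO
    obtain rfl : q = p ^ f₁ := hfl
    have h5 : f₁ * (2 * (6 - 1)) = f * 30 := hfM
    obtain rfl : f₁ = f * 3 := by omega
    have h6 : Nat.gcd 4 ((p ^ (f * 3)) ^ 6 - 1) * c =
        (p ^ (f * 3)) ^ (6 * (6 - 1)) * (((p ^ (f * 3)) ^ 6 - 1) * prB (p ^ (f * 3)) (6 - 1)) := hc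
    rw [← mul_assoc] at h6
    exact (kill_q3 hp hf (Nat.gcd_pos_of_pos_left _ (by norm_num))
      (Nat.gcd_le_left _ (by norm_num)) h6 hdvd).elim
  case ominus m q =>
    obtain rfl : m = 5 := hO
    obtain rfl : q = p ^ f₁ := hfl
    have h5 : f₁ * (2 * 5) = f * 30 := hfM
    obtain rfl : f₁ = f * 3 := by omega
    exact Or.inr (Or.inr rfl)
  case e8 q =>
    obtain rfl : q = p ^ f₁ := hfl
    left
    rw [same_fld (M := 30) (by norm_num) hfM]
  all_goals exact absurd hO not_false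

/-- **`E₈(q)`, classes 20 and 30.** -/
theorem charp_e8_2030 (hp : p.Prime) (hf : 1 ≤ f) (hg : Cond g) (hch : HasChar p g)
    (hc : den g * c = num g) (hdvd : c ∣ num (.e8 (p ^ f))) (hs1 : HT p f 20 g c) (hs2 : HT p f 30 g c) :
    g = .e8 (p ^ f) ∨ g = .psl 3 (p ^ (f * 10)) := by
  obtain ⟨f₁, hf₁, hfl, hK, hY⟩ := kd_all hp hg hch hc
  obtain ⟨i, hi, hei, hfM, h2, h1, h3, hYc⟩ := compP hp hf hg hch hf₁ hfl hK hY (td_e8 hp hf hdvd)
    (by norm_num) (by norm_num) (by norm_num) (fun i hi hei s hs h5 => by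
      have hi' : i ∈ [2, 8, 12, 14, 18, 20, 24, 30] := hi
      refine hpr_aux ?_ hs (by omega)
      simp only [List.mem_cons, List.not_mem_nil, or_false] at hi' ⊢
      omega) hs1 hs2
  have hi' : i ∈ [2, 8, 12, 14, 18, 20, 24, 30] := hi
  obtain rfl : i = 30 := by
    simp only [List.mem_cons, List.not_mem_nil, or_false] at hi'
    omega
  have hO := elimP_e8_20_30 hg hch h2 h1 h3 hYc
  cases g
  case psl m q =>
    obtain rfl : m = 3 := hO
    obtain rfl : q = p ^ f₁ := hfl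
    have h5 : f₁ * 3 = f * 30 := hfM
    obtain rfl : f₁ = f * 10 := by omega
    exact Or.inr rfl
  case psp m q =>
    obtain rfl : m = 3 := hO
    obtain rfl : q = p ^ f₁ := hfl
    have h5 : f₁ * (2 * 3) = f * 30 := hfM
    obtain rfl : f₁ = f * 5 := by omega
    have h6 : Nat.gcd 2 (p ^ (f * 5) - 1) * c = (p ^ (f * 5)) ^ (3 ^ 2) * prB (p ^ (f * 5)) 3 := hc
    exact (kill_q5 hp hf (Nat.gcd_pos_of_pos_left _ (by norm_num))
      ((Nat.gcd_le_left _ (by norm_num)).trans (by norm_num)) h6 hdvd).elim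
  case oodd m q =>
    obtain rfl : m = 3 := hO
    obtain rfl : q = p ^ f₁ := hfl
    have h5 : f₁ * (2 * 3) = f * 30 := hfM
    obtain rfl : f₁ = f * 5 := by omega
    have h6 : 2 * c = (p ^ (f * 5)) ^ (3 ^ 2) * prB (p ^ (f * 5)) 3 := hc
    exact (kill_q5 hp hf (by norm_num) (by norm_num) h6 hdvd).elim
  case oplus m q =>
    obtain rfl : m = 4 := hO
    obtain rfl : q = p ^ f₁ := hfl
    have h5 : f₁ * (2 * (4 - 1)) = f * 30 := hfM
    obtain rfl : f₁ = f * 5 := by omega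
    have h6 : Nat.gcd 4 ((p ^ (f * 5)) ^ 4 - 1) * c =
        (p ^ (f * 5)) ^ (4 * (4 - 1)) * (((p ^ (f * 5)) ^ 4 - 1) * prB (p ^ (f * 5)) (4 - 1)) := hc
    rw [← mul_assoc] at h6
    exact (kill_q5 hp hf (Nat.gcd_pos_of_pos_left _ (by norm_num))
      (Nat.gcd_le_left _ (by norm_num)) h6 hdvd).elim
  case psu m q =>
    exfalso
    obtain rfl : m = 4 := hO
    obtain rfl : q = p ^ f₁ := hfl
    have h5 : f₁ * 6 = f * 30 := hfM
    obtain rfl : f₁ = f * 5 := by omega
    have hq : 2 ≤ p ^ f := hp.two_le.trans (Nat.le_self_pow (by omega) _)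
    have h6 : Nat.gcd 4 (p ^ (f * 5) + 1) * (p ^ (f * 5) + 1) * c =
        (p ^ (f * 5)) ^ (4 * (4 - 1) / 2) * prU (p ^ (f * 5)) 4 := hc
    have hU : prU (p ^ (f * 5)) 4 = ((p ^ (f * 5)) ^ 1 + 1) * (((p ^ (f * 5)) ^ 2 - 1) * (((p ^ (f * 5)) ^ 3 + 1) *
      (((p ^ (f * 5)) ^ 4 - 1) * 1))) := rfl
    have hd := e8_dvd hdvd
    have h7 : Nat.gcd 4 (p ^ (f * 5) + 1) * c = (p ^ (f * 5)) ^ (4 * (4 - 1) / 2) *
        (((p ^ f) ^ 10 - 1) * (((p ^ f) ^ 20 - 1) * ((p ^ f) ^ 15 + 1))) := by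
      have e2 : (p ^ (f * 5)) ^ 2 = (p ^ f) ^ 10 := pow5 p f 2
      have e3 : (p ^ (f * 5)) ^ 3 = (p ^ f) ^ 15 := pow5 p f 3
      have e4 : (p ^ (f * 5)) ^ 4 = (p ^ f) ^ 20 := pow5 p f 4
      rw [hU, e2, e3, e4, pow_one] at h6
      apply Nat.eq_of_mul_eq_mul_left (show 0 < p ^ (f * 5) + 1 by omega)
      calc (p ^ (f * 5) + 1) * (Nat.gcd 4 (p ^ (f * 5) + 1) * c)
          = Nat.gcd 4 (p ^ (f * 5) + 1) * (p ^ (f * 5) + 1) * c := by ring
        _ = _ := h6
        _ = _ := by ring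
    have hgp : 0 < Nat.gcd 4 (p ^ (f * 5) + 1) := Nat.gcd_pos_of_pos_left _ (by norm_num)
    have hgl : Nat.gcd 4 (p ^ (f * 5) + 1) ≤ 4 := Nat.gcd_le_left _ (by norm_num)
    generalize Nat.gcd 4 (p ^ (f * 5) + 1) = D at *
    generalize (p ^ (f * 5)) ^ (4 * (4 - 1) / 2) = A at *
    clear h6 hU hs1 hs2 hK hY hYc h1 h2 h3 hc hdvd hg hch hfM
    generalize p ^ f = q at *
    have b2 := sub_pos' (d := 2) hq (by norm_num)
    have b8 := sub_pos' (d := 8) hq (by norm_num)
    have b12 := sub_pos' (d := 12) hq (by norm_num)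
    have b14 := sub_pos' (d := 14) hq (by norm_num)
    have b18 := sub_pos' (d := 18) hq (by norm_num)
    have b20 := sub_pos' (d := 20) hq (by norm_num)
    have b24 := sub_pos' (d := 24) hq (by norm_num)
    have b30 := sub_pos' (d := 30) hq (by norm_num)
    have hc0 : 0 < c := pos_of_dvd (by positivity) hd
    have h30 : q ^ 30 - 1 = (q ^ 15 - 1) * (q ^ 15 + 1) := by
      have := Nat.sq_sub_sq (q ^ 15) 1
      rw [one_pow, ← pow_mul] at this
      rw [mul_comm]
      exact this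
    rw [h30] at hd
    obtain ⟨s, hs⟩ := exists_prim (q := q) (e := 10) hq (by norm_num) (by omega)
    refine cancel_prime hs.prime (Z := (q ^ 20 - 1) * (q ^ 15 + 1)) (by positivity) hc0
      (A := A) (x := q ^ 10 - 1) (D := D) (B := q ^ 120)
      (y := (q ^ 2 - 1) * (q ^ 8 - 1) * (q ^ 12 - 1) * (q ^ 14 - 1) * (q ^ 18 - 1) * (q ^ 24 - 1) * (q ^ 15 - 1)) h7
      (hd.trans (dvd_of_eq (by ring)))
      (hs.dvd (by norm_num)) (fun h => ?_) (hs.not_dvd_pow _) (fun h => ?_)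
    · have h9 := lt_of_prim hs
      have := Nat.le_of_dvd hgp h
      omega
    · rcases hs.prime.dvd_mul.1 h with h | h
      · rcases hs.prime.dvd_mul.1 h with h | h
        · rcases hs.prime.dvd_mul.1 h with h | h
          · rcases hs.prime.dvd_mul.1 h with h | h
            · rcases hs.prime.dvd_mul.1 h with h | h
              · rcases hs.prime.dvd_mul.1 h with h | h
                · exact hs.not_dvd_sub (by norm_num) h
                · exact hs.not_dvd_sub (by norm_num) h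
              · exact hs.not_dvd_sub (by norm_num) h
            · exact hs.not_dvd_sub (by norm_num) h
          · exact hs.not_dvd_sub (by norm_num) h
        · exact hs.not_dvd_sub (by norm_num) h
      · exact hs.not_dvd_sub (by norm_num) h
  case f4 q =>
    exfalso
    obtain rfl : q = p ^ f₁ := hfl
    have h5 : f₁ * 12 = f * 30 := hfM
    have h5' : 2 * f₁ = 5 * f := by omega
    have hq : 2 ≤ p ^ f := hp.two_le.trans (Nat.le_self_pow (by omega) _)
    have hd := e8_dvd hdvd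
    have h6 : 1 * c = (p ^ f₁) ^ 24 * (((p ^ f₁) ^ 2 - 1) * ((p ^ f₁) ^ 6 - 1) * ((p ^ f₁) ^ 8 - 1) *
        ((p ^ f₁) ^ 12 - 1)) := hc
    have key : ∀ k, (p ^ f₁) ^ (2 * k) = (p ^ f) ^ (5 * k) := fun k => by
      rw [← pow_mul, ← pow_mul, show f₁ * (2 * k) = 2 * f₁ * k by ring, h5']
      congr 1
      ring
    have e1 : (p ^ f₁) ^ 2 = (p ^ f) ^ 5 := key 1
    have e2 : (p ^ f₁) ^ 6 = (p ^ f) ^ 15 := key 3
    have e3 : (p ^ f₁) ^ 8 = (p ^ f) ^ 20 := key 4
    have e4 : (p ^ f₁) ^ 12 = (p ^ f) ^ 30 := key 6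
    rw [e1, e2, e3, e4] at h6
    generalize (p ^ f₁) ^ 24 = A at *
    clear hs1 hs2 hK hY hYc h1 h2 h3 hc hdvd hg hch hfM key e1 e2 e3 e4
    generalize p ^ f = q at *
    have b2 := sub_pos' (d := 2) hq (by norm_num)
    have b8 := sub_pos' (d := 8) hq (by norm_num)
    have b12 := sub_pos' (d := 12) hq (by norm_num)
    have b14 := sub_pos' (d := 14) hq (by norm_num)
    have b18 := sub_pos' (d := 18) hq (by norm_num)
    have b20 := sub_pos' (d := 20) hq (by norm_num)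
    have b24 := sub_pos' (d := 24) hq (by norm_num)
    have b30 := sub_pos' (d := 30) hq (by norm_num)
    have hc0 : 0 < c := pos_of_dvd (by positivity) hd
    obtain ⟨s, hs⟩ := exists_prim (q := q) (e := 5) hq (by norm_num) (by omega)
    refine cancel_prime hs.prime (Z := (q ^ 20 - 1) * (q ^ 30 - 1)) (by positivity) hc0
      (A := A * (q ^ 15 - 1)) (x := q ^ 5 - 1) (D := 1) (B := q ^ 120)
      (y := (q ^ 2 - 1) * (q ^ 8 - 1) * (q ^ 12 - 1) * (q ^ 14 - 1) * (q ^ 18 - 1) * (q ^ 24 - 1)) (by rw [h6]; ring)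
      (hd.trans (dvd_of_eq (by ring)))
      (hs.dvd (by norm_num)) (fun h => ?_) (hs.not_dvd_pow _) (fun h => ?_)
    · exact hs.prime.one_lt.ne' (Nat.dvd_one.1 h)
    · rcases hs.prime.dvd_mul.1 h with h | h
      · rcases hs.prime.dvd_mul.1 h with h | h
        · rcases hs.prime.dvd_mul.1 h with h | h
          · rcases hs.prime.dvd_mul.1 h with h | h
            · rcases hs.prime.dvd_mul.1 h with h | h
              · exact hs.not_dvd_sub (by norm_num) h
              · exact hs.not_dvd_sub (by norm_num) h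
            · exact hs.not_dvd_sub (by norm_num) h
          · exact hs.not_dvd_sub (by norm_num) h
        · exact hs.not_dvd_sub (by norm_num) h
      · exact hs.not_dvd_sub (by norm_num) h
  case e8 q =>
    obtain rfl : q = p ^ f₁ := hfl
    left
    rw [same_fld (M := 30) (by norm_num) hfM]
  all_goals exact absurd hO not_false

end Cfsg.Agent.H290.Cov30
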