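import Cfsg.Agent.H563.KG.KE8
import Cfsg.Agent.H563.KG.Named
import Cfsg.Agent.H290.Cov.C30
import Cfsg.Agent.H290.Cov.P30b
import Cfsg.Agent.H290.Cov.KPsl

/-!
# Subgroups of `E₈(q)` of index prime to the classes {24, 30} or {20, 30} (helper290)

`K_E8a`, `K_E8b` : they are the whole group.
-/

set_option autoImplicit false

namespace Cfsg.Agent.H290.Cov30

open Cfsg Cfsg.Agent.OrdDiv Cfsg.Agent.H436 Cfsg.Agent.H902 Cfsg.Agent.H290.ElReg Cfsg.Agent.H290.ElTab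
  Cfsg.Agent.H56.Exc Cfsg.Agent.H325.Loc Cfsg.Agent.H915.GN Cfsg.Agent.H264.FKS Cfsg.Agent.H325.Same Cfsg.Agent.H325.IsoExc
  Cfsg.Agent.H563.KG

theorem tbl_E8a : Tbl 248 .E8 [24, 30] 30 where
  hn := by norm_num
  hb := bndR_248_30
  hs := svR_E8a
  hbS := bndS_30
  hsS := svS_E8a
  he₀ := by unfold Cls; omega
  hmem := by decide
  hle := fun _ => le_seven30

theorem tbl_E8b : Tbl 248 .E8 [20, 30] 30 where
  hn := by norm_num
  hb := bndR_248_30
  hs := svR_E8b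
  hbS := bndS_30
  hsS := svS_E8b
  he₀ := by unfold Cls; omega
  hmem := by decide
  hle := fun _ => le_seven30

theorem le_seven'' {s : ℕ} (hs : s.Prime) {n : ℕ} (hn : n = 20 ∨ n = 24 ∨ n = 30) (h : s ∣ n) : s ≤ 7 := by
  have key : s ∣ 2 ^ 3 * 3 * 5 := by
    rcases hn with rfl | rfl | rfl
    · exact h.trans (by norm_num)
    · exact h.trans (by norm_num)
    · exact h.trans (by norm_num)
  rcases hs.dvd_mul.1 key with h1 | h1
  · rcases hs.dvd_mul.1 h1 with h2 | h2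
    · exact (Nat.le_of_dvd (by norm_num) (hs.dvd_of_dvd_pow h2)).trans (by norm_num)
    · exact (Nat.le_of_dvd (by norm_num) h2).trans (by norm_num)
  · exact (Nat.le_of_dvd (by norm_num) h1).trans (by norm_num)

/-! ### kills -/

theorem kill_psl5 {S : Type*} [Group S] {p f r : ℕ} (hp : p.Prime) (hS : IsNamed (.psl 5 (p ^ (f * 6))) S)
    (hr : Prim (p ^ f) 24 r) (hd : r ∣ Nat.card S) (hP : PIso p r S) : False := by
  have : Fact p.Prime := ⟨hp⟩
  obtain ⟨F, _, _, hF, ⟨e⟩⟩ := hS.real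
  have := charP_of_card hp hF
  refine not_piso_psl (K := F) (p := p) (n := 5) (by norm_num) hr.prime ?_ ?_ (hP.congr e)
  · rw [← Nat.card_congr e.toEquiv]
    exact hd
  · rw [Nat.card_eq_fintype_card, hF, pow_mul, ← pow_mul]
    exact hr.not_dvd_sub (by norm_num)

theorem kill_psl3' {S : Type*} [Group S] {p f r : ℕ} (hp : p.Prime) (hS : IsNamed (.psl 3 (p ^ (f * 10))) S)
    (hr : Prim (p ^ f) 20 r) (hd : r ∣ Nat.card S) (hP : PIso p r S) : False := by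
  have : Fact p.Prime := ⟨hp⟩
  obtain ⟨F, _, _, hF, ⟨e⟩⟩ := hS.real
  have := charP_of_card hp hF
  refine not_piso_psl (K := F) (p := p) (n := 3) (by norm_num) hr.prime ?_ ?_ (hP.congr e)
  · rw [← Nat.card_congr e.toEquiv]
    exact hd
  · rw [Nat.card_eq_fintype_card, hF, pow_mul, ← pow_mul]
    exact hr.not_dvd_sub (by norm_num)

theorem kill_ominus5 {S : Type*} [Group S] {p f r : ℕ} (hp : p.Prime) (hS : IsNamed (.ominus 5 (p ^ (f * 3))) S)
    (hr : Prim (p ^ f) 24 r) (hd : r ∣ Nat.card S) (hP : PIso p r S) : False := by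
  have : Fact p.Prime := ⟨hp⟩
  obtain ⟨F, _, _, a, b, hF, hab, ⟨e⟩⟩ := hS.real
  have := charP_of_card hp hF
  refine not_piso_ominus (F := F) (m := 5) (p := p) (r := r) (by norm_num) hab hr.prime ?_ ?_ ?_ (hP.congr e)
  · rw [← Nat.card_congr e.toEquiv]
    exact hd
  · rw [hF, pow_mul, ← pow_mul]
    exact hr.not_dvd_add (by norm_num)
  · rw [hF, pow_mul, ← pow_mul]
    exact hr.not_dvd_sub (by norm_num)

section E8

variable {F : Type} [Field F] [Fintype F]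

/-- the common part: `e = 20` or `24`, with the class 30 -/
theorem core_E8 (tb : OrderTable.{0}) (hcyc : CycFixSolv.{0}) (hcf : CF) {e : ℕ} (he : e = 20 ∨ e = 24)
    (ht : Tbl 248 .E8 [e, 30] 30) {p f : ℕ} [CharP F p] (hp : p.Prime) (hf : 1 ≤ f) (hq : Fintype.card F = p ^ f)
    (B : Subgroup ↥(Lie.chevE8.group F)) (hoff : Off (p ^ f) [e, 30] B) :
    ∃ (S : Subgroup B) (_ : S.Normal) (_ : IsSimpleGroup S), ¬ IsMulCommutative S ∧
      (∀ c ∈ [e, 30], ∀ r, Prim (p ^ f) c r → r ∣ Nat.card S) ∧ ∃ g, IsNamed g S ∧ HasChar p g := by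
  have := Fact.mk hp
  have hfin : Finite ↥(Lie.chevE8.group F) := inferInstance
  have hT := named_e8 (F := F) tb
  rw [hq] at hT
  have hq2 : 2 ≤ p ^ f := hp.two_le.trans (Nat.le_self_pow (by omega) p)
  have hq1 : 1 ≤ p ^ f := by omega
  have hOL : num (.e8 (p ^ f)) = OL .E8 (p ^ f) := rfl
  have hdT : Nat.card ↥(Lie.chevE8.group F) ∣ OL .E8 (p ^ f) := by
    rw [← hOL, ← hT.eq]
    exact Dvd.intro_left _ rfl
  have hmem : ∀ c ∈ [e, 30], c = 20 ∨ c = 24 ∨ c = 30 := by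
    intro c hc
    simp only [List.mem_cons, List.not_mem_nil, or_false] at hc
    omega
  have hcl : ∀ c ∈ [e, 30], Cls c := by
    intro c hc
    have := hmem c hc
    unfold Cls
    omega
  have h7 : ∀ c ∈ [e, 30], 7 ≤ c := by
    intro c hc
    have := hmem c hc
    omega
  have hnum : ∀ c ∈ [e, 30], ncl c (p ^ f) ∣ num (.e8 (p ^ f)) := by
    intro c hc
    have h1 : ∀ d ∈ [2, 8, 12, 14, 18, 20, 24, 30], (p ^ f) ^ d - 1 ∣ num (.e8 (p ^ f)) := by
      intro d hd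
      show _ ∣ (p ^ f) ^ 120 * (((p ^ f) ^ 2 - 1) * ((p ^ f) ^ 8 - 1) * ((p ^ f) ^ 12 - 1) *
        ((p ^ f) ^ 14 - 1) * ((p ^ f) ^ 18 - 1) * ((p ^ f) ^ 20 - 1) * ((p ^ f) ^ 24 - 1) * ((p ^ f) ^ 30 - 1))
      refine Dvd.dvd.mul_left ?_ _
      have h1 := List.dvd_prod (List.mem_map_of_mem (f := fun d => (p ^ f) ^ d - 1) hd)
      simp only [List.map_cons, List.map_nil, List.prod_cons, List.prod_nil, mul_one] at h1
      simp only [mul_assoc]
      exact h1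
    refine (ncl_dvd_Ph c _).trans ((Ph_dvd (hcl c hc) hq1).trans (h1 c ?_))
    rcases hmem c hc with rfl | rfl | rfl <;> decide
  have hnT : ∀ c ∈ [e, 30], ncl c (p ^ f) ∣ Nat.card ↥(Lie.chevE8.group F) := fun c hc =>
    ncl_dvd_card (hcl c hc) (h7 c hc) hq2 (den_pos hT.cond) (by show 1 ≤ 6; norm_num) hT.eq (hnum c hc)
  have hm20 : ((Ph 20 (p ^ f) : ℕ) : ℤ) = 1 - ((p ^ f : ℕ) : ℤ) ^ 2 + ((p ^ f : ℕ) : ℤ) ^ 4 - ((p ^ f : ℕ) : ℤ) ^ 6 +
      ((p ^ f : ℕ) : ℤ) ^ 8 := by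
    rw [cast_Ph20 _ hq1]; ring
  have hm24 : ((Ph 24 (p ^ f) : ℕ) : ℤ) = 1 - ((p ^ f : ℕ) : ℤ) ^ 4 + ((p ^ f : ℕ) : ℤ) ^ 8 := by
    rw [cast_Ph24 _ hq1]; ring
  have hm30 : ((Ph 30 (p ^ f) : ℕ) : ℤ) = 1 + ((p ^ f : ℕ) : ℤ) - ((p ^ f : ℕ) : ℤ) ^ 3 - ((p ^ f : ℕ) : ℤ) ^ 4 -
      ((p ^ f : ℕ) : ℤ) ^ 5 + ((p ^ f : ℕ) : ℤ) ^ 7 + ((p ^ f : ℕ) : ℤ) ^ 8 := by
    rw [cast_Ph30 _ hq1]; ring
  have hbig : ∀ c ∈ [e, 30], ∀ r, Prim (p ^ f) c r → Big ↥(Lie.chevE8.group F) r (Ph c (p ^ f)) c := by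
    intro c hc r hr
    rcases hmem c hc with rfl | rfl | rfl
    · exact big_E8_20 hq hm20 hr
    · exact big_E8_24 hq hm24 hr
    · exact big_E8_30 hq hm30 hr
  obtain ⟨r₀, hr₀⟩ := exists_prim hq2 (show 3 ≤ e by omega) (by omega)
  have hpiso : PIso p r₀ ↥(Lie.chevE8.group F) := piso_E8 (F := F) he (by rw [hq]; exact hr₀)
  have hord : ∀ c ∈ [e, 30], Ord ↥(Lie.chevE8.group F) (p ^ f) c (Ph c (p ^ f)) :=
    fun c hc r hr x hx => (hbig c hc r hr).card x hx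
  have h30 : 30 ∈ [e, 30] := by simp
  obtain ⟨S, hSn, hSs, hSna, hnS, hidx, hbS, g, hg, hch⟩ := core tb hcyc hcf ht (fam := [e, 30]) (fun c hc => hc)
    (M := fun c => Ph c (p ^ f)) (E := fun c => c)
    (e := e) (e' := 30) (by simp) (by simp) (Or.inl (by
      rcases he with rfl | rfl
      · exact dist_20_30 hq2
      · exact dist_24_30 hq2)) hcl h7 hp hf (F := F) fth_E8 hdT
    hbig (fun c hc => Ph_dvd (hcl c hc) hq1)
    (fun c hc s hs hd => le_seven'' hs (hmem c hc) hd)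
    (by
      intro c hc
      simp only [List.mem_cons, List.not_mem_nil, or_false] at hc
      rcases hc with rfl | rfl
      · exact ⟨30, by simp, fun h => by have := Nat.le_of_dvd (by omega) h; omega⟩
      · refine ⟨e, by simp, ?_⟩
        rcases he with rfl | rfl <;> norm_num) hnT (c₀ := e) (by simp) hr₀ hpiso hoff (fun t ht htp htn htB => by
      refine good_E8 (by norm_num) hq2 ((hord 30 h30).sub B) ?_ ht (htn 30 h30)
      exact off_ncl_dvd hoff h30 (hcl 30 h30) hq1 (hnT 30 h30))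
  exact ⟨S, hSn, hSs, hSna, fun c hc r hr => (hbS c hc r hr).2.2, g, hg, hch⟩

/-- **`E₈(q)`, the classes 24, 30.** -/
theorem K_E8a (tb : OrderTable.{0}) (hcyc : CycFixSolv.{0}) (hcf : CF)
    (B : Subgroup ↥(Lie.chevE8.group F)) (hoff : Off (Fintype.card F) [24, 30] B) : B = ⊤ := by
  obtain ⟨p, f, _, hp, hf, hq⟩ := exists_pf F
  have := Fact.mk hp
  have hT := named_e8 (F := F) tb
  rw [hq] at hT hoff
  have hq2 : 2 ≤ p ^ f := hp.two_le.trans (Nat.le_self_pow (by omega) p)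
  obtain ⟨S, hSn, hSs, hSna, hbS, g, hg, hch⟩ := core_E8 tb hcyc hcf (Or.inr rfl) tbl_E8a hp hf hq B hoff
  have hdS : Nat.card S ∣ num (.e8 (p ^ f)) := IsNamed.card_dvd hT S
  obtain ⟨r, hr⟩ := exists_prim hq2 (show 3 ≤ 24 by norm_num) (by omega)
  have hpiso : PIso p r S :=
    ((piso_E8 (F := F) (Or.inr rfl) (by rw [hq]; exact hr) : PIso p r ↥(Lie.chevE8.group F)).sub B).sub S
  have hrS : r ∣ Nat.card S := hbS 24 (by decide) r hr
  rcases charp_e8_2430 hp hf hg.cond hch hg.eq hdS (fun s hs _ => hbS 24 (by decide) s hs)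
    (fun s hs _ => hbS 30 (by decide) s hs) with rfl | rfl | rfl
  · exact eq_top_of_name hT hg
  · exact (kill_psl5 hp hg hr hrS hpiso).elim
  · exact (kill_ominus5 hp hg hr hrS hpiso).elim

/-- **`E₈(q)`, the classes 20, 30.** -/
theorem K_E8b (tb : OrderTable.{0}) (hcyc : CycFixSolv.{0}) (hcf : CF)
    (B : Subgroup ↥(Lie.chevE8.group F)) (hoff : Off (Fintype.card F) [20, 30] B) : B = ⊤ := by
  obtain ⟨p, f, _, hp, hf, hq⟩ := exists_pf F
  have := Fact.mk hp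
  have hT := named_e8 (F := F) tb
  rw [hq] at hT hoff
  have hq2 : 2 ≤ p ^ f := hp.two_le.trans (Nat.le_self_pow (by omega) p)
  obtain ⟨S, hSn, hSs, hSna, hbS, g, hg, hch⟩ := core_E8 tb hcyc hcf (Or.inl rfl) tbl_E8b hp hf hq B hoff
  have hdS : Nat.card S ∣ num (.e8 (p ^ f)) := IsNamed.card_dvd hT S
  obtain ⟨r, hr⟩ := exists_prim hq2 (show 3 ≤ 20 by norm_num) (by omega)
  have hpiso : PIso p r S :=
    ((piso_E8 (F := F) (Or.inl rfl) (by rw [hq]; exact hr) : PIso p r ↥(Lie.chevE8.group F)).sub B).sub S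
  have hrS : r ∣ Nat.card S := hbS 20 (by decide) r hr
  rcases charp_e8_2030 hp hf hg.cond hch hg.eq hdS (fun s hs _ => hbS 20 (by decide) s hs)
    (fun s hs _ => hbS 30 (by decide) s hs) with rfl | rfl
  · exact eq_top_of_name hT hg
  · exact (kill_psl3' hp hg hr hrS hpiso).elim

end E8

end Cfsg.Agent.H290.Cov30
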