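import Mathlib
import Cfsg.Agent.H325.Same.ExcPair

/-!
# Elimination for the classes {24, 30}, {20, 30} of `E₈(q)` (helper290, after helper325's `Same.ExcPairE`)
-/

set_option autoImplicit false
set_option linter.unreachableTactic false
set_option linter.unusedTactic false

namespace Cfsg.Agent.H290.Cov30

open Cfsg.Agent.OrdDiv Cfsg.Agent.H436 Cfsg.Agent.H915.GN Cfsg.Agent.H264.GN Cfsg.Agent.H264.FKS Cfsg.Agent.H325.Same

variable {p f c : ℕ} {g : Grp}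

/-- candidates -/
def Out24 : Grp → Prop
  | .psl m _ => m = 5
  | .psp m _ => m = 5
  | .oodd m _ => m = 5
  | .oplus m _ => m = 6
  | .ominus m _ => m = 5
  | .e8 _ => True
  | _ => False

/-- candidates -/
def Out20 : Grp → Prop
  | .psl m _ => m = 3
  | .psp m _ => m = 3
  | .oodd m _ => m = 3
  | .psu m _ => m = 4
  | .oplus m _ => m = 4
  | .f4 _ => True
  | .e8 _ => True
  | _ => False

theorem elimP_e8_24_30 (hg : Cond g) (hch : HasChar p g)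
    (h2 : ag g * 30 ≤ 120 * Mg g) (h1 : ∃ x, Xg g x ∧ 24 * Mg g ∣ 30 * x) (h3 : ∃ x, Xg g x ∧ 30 * Mg g ∣ 30 * x)
    (hY : ∀ k, (k = 4 ∨ k = 5 ∨ 7 ≤ k) → Yg g k → ∃ j, j ∈ [2, 8, 12, 14, 18, 20, 24, 30] ∧ 30 * k ∣ Mg g * j) :
    Out24 g := by
  obtain ⟨x, hx, hxd⟩ := h1
  obtain ⟨y, hy, hyd⟩ := h3
  have h2' : 2 * ag g ≤ 8 * Mg g := by omega
  clear h2
  cases g
  case psl m q =>
    obtain ⟨hm, -, -⟩ := hg
    have hb := bd_psl (ρ := 8) (by omega) h2'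
    have hx' : 1 ≤ x ∧ x ≤ m := hx
    have hy' : 1 ≤ y ∧ y ≤ m := hy
    have hxd' : 24 * m ∣ 30 * x := hxd
    have hyd' : 30 * m ∣ 30 * y := hyd
    have hY4 : 4 ≤ m → 120 ∣ m * 2 ∨ 120 ∣ m * 8 ∨ 120 ∣ m * 12 ∨ 120 ∣ m * 14 ∨ 120 ∣ m * 18 ∨ 120 ∣ m * 20 ∨ 120 ∣ m * 24 ∨ 120 ∣ m * 30 := by
      intro h
      obtain ⟨j, hj, hjd⟩ := hY 4 (by norm_num) (show 2 ≤ 4 ∧ 4 ≤ m from ⟨by norm_num, h⟩)
      have hjd' : 30 * 4 ∣ m * j := hjd
      simp only [List.mem_cons, List.not_mem_nil, or_false] at hj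
      norm_num only at hjd'
      rcases hj with rfl | rfl | rfl | rfl | rfl | rfl | rfl | rfl <;> simp only [hjd', true_or, or_true]
    clear hx hy hxd hyd h2' hch hY
    interval_cases m <;> first | omega | exact trivial | exact rfl
  case psp m q =>
    obtain ⟨hm, -, -⟩ := hg
    have hb := bd_psp (ρ := 8) (by omega) h2'
    have hx' : 1 ≤ x ∧ x ≤ 2 * m ∧ 2 ∣ x := hx
    have hy' : 1 ≤ y ∧ y ≤ 2 * m ∧ 2 ∣ y := hy
    have hxd' : 24 * (2 * m) ∣ 30 * x := hxd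
    have hyd' : 30 * (2 * m) ∣ 30 * y := hyd
    have hY8 : 8 ≤ 2 * m → 240 ∣ (2 * m) * 2 ∨ 240 ∣ (2 * m) * 8 ∨ 240 ∣ (2 * m) * 12 ∨ 240 ∣ (2 * m) * 14 ∨ 240 ∣ (2 * m) * 18 ∨ 240 ∣ (2 * m) * 20 ∨ 240 ∣ (2 * m) * 24 ∨ 240 ∣ (2 * m) * 30 := by
      intro h
      obtain ⟨j, hj, hjd⟩ := hY 8 (by norm_num) (show 1 ≤ 8 ∧ 8 ≤ 2 * m ∧ 2 ∣ 8 from ⟨by norm_num, h, by norm_num⟩)
      have hjd' : 30 * 8 ∣ (2 * m) * j := hjd
      simp only [List.mem_cons, List.not_mem_nil, or_false] at hj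
      norm_num only at hjd'
      rcases hj with rfl | rfl | rfl | rfl | rfl | rfl | rfl | rfl <;> simp only [hjd', true_or, or_true]
    clear hx hy hxd hyd h2' hch hY
    interval_cases m <;> first | omega | exact trivial | exact rfl
  case oodd m q =>
    obtain ⟨hm, -, -⟩ := hg
    have hb := bd_psp (ρ := 8) (by omega) h2'
    have hx' : 1 ≤ x ∧ x ≤ 2 * m ∧ 2 ∣ x := hx
    have hy' : 1 ≤ y ∧ y ≤ 2 * m ∧ 2 ∣ y := hy
    have hxd' : 24 * (2 * m) ∣ 30 * x := hxd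
    have hyd' : 30 * (2 * m) ∣ 30 * y := hyd
    have hY8 : 8 ≤ 2 * m → 240 ∣ (2 * m) * 2 ∨ 240 ∣ (2 * m) * 8 ∨ 240 ∣ (2 * m) * 12 ∨ 240 ∣ (2 * m) * 14 ∨ 240 ∣ (2 * m) * 18 ∨ 240 ∣ (2 * m) * 20 ∨ 240 ∣ (2 * m) * 24 ∨ 240 ∣ (2 * m) * 30 := by
      intro h
      obtain ⟨j, hj, hjd⟩ := hY 8 (by norm_num) (show 1 ≤ 8 ∧ 8 ≤ 2 * m ∧ 2 ∣ 8 from ⟨by norm_num, h, by norm_num⟩)
      have hjd' : 30 * 8 ∣ (2 * m) * j := hjd
      simp only [List.mem_cons, List.not_mem_nil, or_false] at hj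
      norm_num only at hjd'
      rcases hj with rfl | rfl | rfl | rfl | rfl | rfl | rfl | rfl <;> simp only [hjd', true_or, or_true]
    clear hx hy hxd hyd h2' hch hY
    interval_cases m <;> first | omega | exact trivial | exact rfl
  case psu m q =>
    obtain ⟨hm, -, -⟩ := hg
    have hb := bd_psu (ρ := 8) hm h2'
    have hx' : (1 ≤ x ∧ x ≤ m ∧ 2 ∣ x) ∨ ∃ j, x = 2 * j ∧ j ≤ m ∧ j % 2 = 1 := hx
    have hy' : (1 ≤ y ∧ y ≤ m ∧ 2 ∣ y) ∨ ∃ j, y = 2 * j ∧ j ≤ m ∧ j % 2 = 1 := hy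
    obtain ⟨k, hk⟩ : ∃ k, k = (if m % 2 = 0 then m - 1 else m) := ⟨_, rfl⟩
    have hk' : (m % 2 = 0 ∧ k = m - 1) ∨ (m % 2 = 1 ∧ k = m) := by
      rw [hk]
      split_ifs <;> omega
    have hM : Mg (.psu m q) = 2 * k := by rw [hk]; rfl
    have hxd' : 24 * (2 * k) ∣ 30 * x := hM ▸ hxd
    have hyd' : 30 * (2 * k) ∣ 30 * y := hM ▸ hyd
    clear hx hy hxd hyd h2' hch hY hM hk
    rcases hk' with ⟨hk1, hk2⟩ | ⟨hk1, hk2⟩ <;> rcases hx' with hx' | ⟨j, rfl, hx'⟩ <;>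
      rcases hy' with hy' | ⟨l, rfl, hy'⟩ <;> interval_cases m <;> subst hk2 <;> first | omega | exact trivial | exact rfl
  case oplus m q =>
    obtain ⟨hm, -⟩ := hg
    have hb := bd_oplus (ρ := 8) (by omega) h2'
    have hx' : 1 ≤ x ∧ x ≤ 2 * (m - 1) ∧ (2 ∣ x ∨ x = m) := hx
    have hy' : 1 ≤ y ∧ y ≤ 2 * (m - 1) ∧ (2 ∣ y ∨ y = m) := hy
    have hxd' : 24 * (2 * (m - 1)) ∣ 30 * x := hxd
    have hyd' : 30 * (2 * (m - 1)) ∣ 30 * y := hyd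
    have hY8 : 8 ≤ 2 * (m - 1) → 240 ∣ (2 * (m - 1)) * 2 ∨ 240 ∣ (2 * (m - 1)) * 8 ∨ 240 ∣ (2 * (m - 1)) * 12 ∨ 240 ∣ (2 * (m - 1)) * 14 ∨ 240 ∣ (2 * (m - 1)) * 18 ∨ 240 ∣ (2 * (m - 1)) * 20 ∨ 240 ∣ (2 * (m - 1)) * 24 ∨ 240 ∣ (2 * (m - 1)) * 30 := by
      intro h
      obtain ⟨j, hj, hjd⟩ := hY 8 (by norm_num) (show 4 ≤ 8 ∧ 8 ≤ 2 * (m - 1) ∧ 2 ∣ 8 from ⟨by norm_num, h, by norm_num⟩)
      have hjd' : 30 * 8 ∣ (2 * (m - 1)) * j := hjd
      simp only [List.mem_cons, List.not_mem_nil, or_false] at hj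
      norm_num only at hjd'
      rcases hj with rfl | rfl | rfl | rfl | rfl | rfl | rfl | rfl <;> simp only [hjd', true_or, or_true]
    clear hx hy hxd hyd h2' hch hY
    interval_cases m <;> first | omega | exact trivial | exact rfl
  case ominus m q =>
    obtain ⟨hm, -⟩ := hg
    have hb := bd_ominus (ρ := 8) (by omega) h2'
    have hx' : 1 ≤ x ∧ x ≤ 2 * m ∧ 2 ∣ x := hx
    have hy' : 1 ≤ y ∧ y ≤ 2 * m ∧ 2 ∣ y := hy
    have hxd' : 24 * (2 * m) ∣ 30 * x := hxd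
    have hyd' : 30 * (2 * m) ∣ 30 * y := hyd
    have hY8 : 8 ≤ 2 * m → 240 ∣ (2 * m) * 2 ∨ 240 ∣ (2 * m) * 8 ∨ 240 ∣ (2 * m) * 12 ∨ 240 ∣ (2 * m) * 14 ∨ 240 ∣ (2 * m) * 18 ∨ 240 ∣ (2 * m) * 20 ∨ 240 ∣ (2 * m) * 24 ∨ 240 ∣ (2 * m) * 30 := by
      intro h
      obtain ⟨j, hj, hjd⟩ := hY 8 (by norm_num) (show 4 ≤ 8 ∧ 8 ≤ 2 * m ∧ 2 ∣ 8 from ⟨by norm_num, h, by norm_num⟩)
      have hjd' : 30 * 8 ∣ (2 * m) * j := hjd
      simp only [List.mem_cons, List.not_mem_nil, or_false] at hj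
      norm_num only at hjd'
      rcases hj with rfl | rfl | rfl | rfl | rfl | rfl | rfl | rfl <;> simp only [hjd', true_or, or_true]
    clear hx hy hxd hyd h2' hch hY
    interval_cases m <;> first | omega | exact trivial | exact rfl
  case g2 q =>
    have hx' : x ∈ [2, 6] := hx
    have hy' : y ∈ [2, 6] := hy
    have hxd' : 24 * 6 ∣ 30 * x := hxd
    have hyd' : 30 * 6 ∣ 30 * y := hyd
    have h4 : 2 * 6 ≤ 8 * 6 := h2'
    simp only [List.mem_cons, List.not_mem_nil, or_false] at hx' hy'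
    clear hx hy hxd hyd h2' hch hY
    first | omega | exact trivial | exact rfl
  case f4 q =>
    have hx' : x ∈ [2, 6, 8, 12] := hx
    have hy' : y ∈ [2, 6, 8, 12] := hy
    have hxd' : 24 * 12 ∣ 30 * x := hxd
    have hyd' : 30 * 12 ∣ 30 * y := hyd
    have h4 : 2 * 24 ≤ 8 * 12 := h2'
    simp only [List.mem_cons, List.not_mem_nil, or_false] at hx' hy'
    clear hx hy hxd hyd h2' hch hY
    first | omega | exact trivial | exact rfl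
  case e6 q =>
    have hx' : x ∈ [2, 5, 6, 8, 9, 12] := hx
    have hy' : y ∈ [2, 5, 6, 8, 9, 12] := hy
    have hxd' : 24 * 12 ∣ 30 * x := hxd
    have hyd' : 30 * 12 ∣ 30 * y := hyd
    have h4 : 2 * 36 ≤ 8 * 12 := h2'
    simp only [List.mem_cons, List.not_mem_nil, or_false] at hx' hy'
    clear hx hy hxd hyd h2' hch hY
    first | omega | exact trivial | exact rfl
  case e7 q =>
    have hx' : x ∈ [2, 6, 8, 10, 12, 14, 18] := hx
    have hy' : y ∈ [2, 6, 8, 10, 12, 14, 18] := hy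
    have hxd' : 24 * 18 ∣ 30 * x := hxd
    have hyd' : 30 * 18 ∣ 30 * y := hyd
    have h4 : 2 * 63 ≤ 8 * 18 := h2'
    simp only [List.mem_cons, List.not_mem_nil, or_false] at hx' hy'
    clear hx hy hxd hyd h2' hch hY
    first | omega | exact trivial | exact rfl
  case e8 q =>
    have hx' : x ∈ [2, 8, 12, 14, 18, 20, 24, 30] := hx
    have hy' : y ∈ [2, 8, 12, 14, 18, 20, 24, 30] := hy
    have hxd' : 24 * 30 ∣ 30 * x := hxd
    have hyd' : 30 * 30 ∣ 30 * y := hyd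
    have h4 : 2 * 120 ≤ 8 * 30 := h2'
    simp only [List.mem_cons, List.not_mem_nil, or_false] at hx' hy'
    clear hx hy hxd hyd h2' hch hY
    first | omega | exact trivial | exact rfl
  case te6 q =>
    have hx' : x ∈ [2, 10, 6, 8, 18, 12] := hx
    have hy' : y ∈ [2, 10, 6, 8, 18, 12] := hy
    have hxd' : 24 * 18 ∣ 30 * x := hxd
    have hyd' : 30 * 18 ∣ 30 * y := hyd
    have h4 : 2 * 36 ≤ 8 * 18 := h2'
    simp only [List.mem_cons, List.not_mem_nil, or_false] at hx' hy'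
    clear hx hy hxd hyd h2' hch hY
    first | omega | exact trivial | exact rfl
  case td4 q =>
    have hx' : x ∈ [2, 6, 12] := hx
    have hy' : y ∈ [2, 6, 12] := hy
    have hxd' : 24 * 12 ∣ 30 * x := hxd
    have hyd' : 30 * 12 ∣ 30 * y := hyd
    have h4 : 2 * 12 ≤ 8 * 12 := h2'
    simp only [List.mem_cons, List.not_mem_nil, or_false] at hx' hy'
    clear hx hy hxd hyd h2' hch hY
    first | omega | exact trivial | exact rfl
  case sz q =>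
    have hx' : x ∈ [1, 4] := hx
    have hy' : y ∈ [1, 4] := hy
    have hxd' : 24 * 4 ∣ 30 * x := hxd
    have hyd' : 30 * 4 ∣ 30 * y := hyd
    have h4 : 2 * 2 ≤ 8 * 4 := h2'
    simp only [List.mem_cons, List.not_mem_nil, or_false] at hx' hy'
    clear hx hy hxd hyd h2' hch hY
    first | omega | exact trivial | exact rfl
  case ree q =>
    have hx' : x ∈ [1, 6] := hx
    have hy' : y ∈ [1, 6] := hy
    have hxd' : 24 * 6 ∣ 30 * x := hxd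
    have hyd' : 30 * 6 ∣ 30 * y := hyd
    have h4 : 2 * 3 ≤ 8 * 6 := h2'
    simp only [List.mem_cons, List.not_mem_nil, or_false] at hx' hy'
    clear hx hy hxd hyd h2' hch hY
    first | omega | exact trivial | exact rfl
  case tf4 q =>
    have hx' : x ∈ [1, 6, 4, 12] := hx
    have hy' : y ∈ [1, 6, 4, 12] := hy
    have hxd' : 24 * 12 ∣ 30 * x := hxd
    have hyd' : 30 * 12 ∣ 30 * y := hyd
    have h4 : 2 * 12 ≤ 8 * 12 := h2'
    simp only [List.mem_cons, List.not_mem_nil, or_false] at hx' hy'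
    clear hx hy hxd hyd h2' hch hY
    first | omega | exact trivial | exact rfl
  all_goals exact absurd hch not_false


theorem elimP_e8_20_30 (hg : Cond g) (hch : HasChar p g)
    (h2 : ag g * 30 ≤ 120 * Mg g) (h1 : ∃ x, Xg g x ∧ 20 * Mg g ∣ 30 * x) (h3 : ∃ x, Xg g x ∧ 30 * Mg g ∣ 30 * x)
    (hY : ∀ k, (k = 4 ∨ k = 5 ∨ 7 ≤ k) → Yg g k → ∃ j, j ∈ [2, 8, 12, 14, 18, 20, 24, 30] ∧ 30 * k ∣ Mg g * j) :
    Out20 g := by
  obtain ⟨x, hx, hxd⟩ := h1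
  obtain ⟨y, hy, hyd⟩ := h3
  have h2' : 2 * ag g ≤ 8 * Mg g := by omega
  clear h2
  cases g
  case psl m q =>
    obtain ⟨hm, -, -⟩ := hg
    have hb := bd_psl (ρ := 8) (by omega) h2'
    have hx' : 1 ≤ x ∧ x ≤ m := hx
    have hy' : 1 ≤ y ∧ y ≤ m := hy
    have hxd' : 20 * m ∣ 30 * x := hxd
    have hyd' : 30 * m ∣ 30 * y := hyd
    have hY4 : 4 ≤ m → 120 ∣ m * 2 ∨ 120 ∣ m * 8 ∨ 120 ∣ m * 12 ∨ 120 ∣ m * 14 ∨ 120 ∣ m * 18 ∨ 120 ∣ m * 20 ∨ 120 ∣ m * 24 ∨ 120 ∣ m * 30 := by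
      intro h
      obtain ⟨j, hj, hjd⟩ := hY 4 (by norm_num) (show 2 ≤ 4 ∧ 4 ≤ m from ⟨by norm_num, h⟩)
      have hjd' : 30 * 4 ∣ m * j := hjd
      simp only [List.mem_cons, List.not_mem_nil, or_false] at hj
      norm_num only at hjd'
      rcases hj with rfl | rfl | rfl | rfl | rfl | rfl | rfl | rfl <;> simp only [hjd', true_or, or_true]
    have hY5 : 5 ≤ m → 150 ∣ m * 2 ∨ 150 ∣ m * 8 ∨ 150 ∣ m * 12 ∨ 150 ∣ m * 14 ∨ 150 ∣ m * 18 ∨ 150 ∣ m * 20 ∨ 150 ∣ m * 24 ∨ 150 ∣ m * 30 := by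
      intro h
      obtain ⟨j, hj, hjd⟩ := hY 5 (by norm_num) (show 2 ≤ 5 ∧ 5 ≤ m from ⟨by norm_num, h⟩)
      have hjd' : 30 * 5 ∣ m * j := hjd
      simp only [List.mem_cons, List.not_mem_nil, or_false] at hj
      norm_num only at hjd'
      rcases hj with rfl | rfl | rfl | rfl | rfl | rfl | rfl | rfl <;> simp only [hjd', true_or, or_true]
    clear hx hy hxd hyd h2' hch hY
    interval_cases m <;> first | omega | exact trivial | exact rfl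
  case psp m q =>
    obtain ⟨hm, -, -⟩ := hg
    have hb := bd_psp (ρ := 8) (by omega) h2'
    have hx' : 1 ≤ x ∧ x ≤ 2 * m ∧ 2 ∣ x := hx
    have hy' : 1 ≤ y ∧ y ≤ 2 * m ∧ 2 ∣ y := hy
    have hxd' : 20 * (2 * m) ∣ 30 * x := hxd
    have hyd' : 30 * (2 * m) ∣ 30 * y := hyd
    have hY8 : 8 ≤ 2 * m → 240 ∣ (2 * m) * 2 ∨ 240 ∣ (2 * m) * 8 ∨ 240 ∣ (2 * m) * 12 ∨ 240 ∣ (2 * m) * 14 ∨ 240 ∣ (2 * m) * 18 ∨ 240 ∣ (2 * m) * 20 ∨ 240 ∣ (2 * m) * 24 ∨ 240 ∣ (2 * m) * 30 := by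
      intro h
      obtain ⟨j, hj, hjd⟩ := hY 8 (by norm_num) (show 1 ≤ 8 ∧ 8 ≤ 2 * m ∧ 2 ∣ 8 from ⟨by norm_num, h, by norm_num⟩)
      have hjd' : 30 * 8 ∣ (2 * m) * j := hjd
      simp only [List.mem_cons, List.not_mem_nil, or_false] at hj
      norm_num only at hjd'
      rcases hj with rfl | rfl | rfl | rfl | rfl | rfl | rfl | rfl <;> simp only [hjd', true_or, or_true]
    have hY10 : 10 ≤ 2 * m → 300 ∣ (2 * m) * 2 ∨ 300 ∣ (2 * m) * 8 ∨ 300 ∣ (2 * m) * 12 ∨ 300 ∣ (2 * m) * 14 ∨ 300 ∣ (2 * m) * 18 ∨ 300 ∣ (2 * m) * 20 ∨ 300 ∣ (2 * m) * 24 ∨ 300 ∣ (2 * m) * 30 := by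
      intro h
      obtain ⟨j, hj, hjd⟩ := hY 10 (by norm_num) (show 1 ≤ 10 ∧ 10 ≤ 2 * m ∧ 2 ∣ 10 from ⟨by norm_num, h, by norm_num⟩)
      have hjd' : 30 * 10 ∣ (2 * m) * j := hjd
      simp only [List.mem_cons, List.not_mem_nil, or_false] at hj
      norm_num only at hjd'
      rcases hj with rfl | rfl | rfl | rfl | rfl | rfl | rfl | rfl <;> simp only [hjd', true_or, or_true]
    clear hx hy hxd hyd h2' hch hY
    interval_cases m <;> first | omega | exact trivial | exact rfl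
  case oodd m q =>
    obtain ⟨hm, -, -⟩ := hg
    have hb := bd_psp (ρ := 8) (by omega) h2'
    have hx' : 1 ≤ x ∧ x ≤ 2 * m ∧ 2 ∣ x := hx
    have hy' : 1 ≤ y ∧ y ≤ 2 * m ∧ 2 ∣ y := hy
    have hxd' : 20 * (2 * m) ∣ 30 * x := hxd
    have hyd' : 30 * (2 * m) ∣ 30 * y := hyd
    have hY8 : 8 ≤ 2 * m → 240 ∣ (2 * m) * 2 ∨ 240 ∣ (2 * m) * 8 ∨ 240 ∣ (2 * m) * 12 ∨ 240 ∣ (2 * m) * 14 ∨ 240 ∣ (2 * m) * 18 ∨ 240 ∣ (2 * m) * 20 ∨ 240 ∣ (2 * m) * 24 ∨ 240 ∣ (2 * m) * 30 := by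
      intro h
      obtain ⟨j, hj, hjd⟩ := hY 8 (by norm_num) (show 1 ≤ 8 ∧ 8 ≤ 2 * m ∧ 2 ∣ 8 from ⟨by norm_num, h, by norm_num⟩)
      have hjd' : 30 * 8 ∣ (2 * m) * j := hjd
      simp only [List.mem_cons, List.not_mem_nil, or_false] at hj
      norm_num only at hjd'
      rcases hj with rfl | rfl | rfl | rfl | rfl | rfl | rfl | rfl <;> simp only [hjd', true_or, or_true]
    have hY10 : 10 ≤ 2 * m → 300 ∣ (2 * m) * 2 ∨ 300 ∣ (2 * m) * 8 ∨ 300 ∣ (2 * m) * 12 ∨ 300 ∣ (2 * m) * 14 ∨ 300 ∣ (2 * m) * 18 ∨ 300 ∣ (2 * m) * 20 ∨ 300 ∣ (2 * m) * 24 ∨ 300 ∣ (2 * m) * 30 := by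
      intro h
      obtain ⟨j, hj, hjd⟩ := hY 10 (by norm_num) (show 1 ≤ 10 ∧ 10 ≤ 2 * m ∧ 2 ∣ 10 from ⟨by norm_num, h, by norm_num⟩)
      have hjd' : 30 * 10 ∣ (2 * m) * j := hjd
      simp only [List.mem_cons, List.not_mem_nil, or_false] at hj
      norm_num only at hjd'
      rcases hj with rfl | rfl | rfl | rfl | rfl | rfl | rfl | rfl <;> simp only [hjd', true_or, or_true]
    clear hx hy hxd hyd h2' hch hY
    interval_cases m <;> first | omega | exact trivial | exact rfl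
  case psu m q =>
    obtain ⟨hm, -, -⟩ := hg
    have hb := bd_psu (ρ := 8) hm h2'
    have hx' : (1 ≤ x ∧ x ≤ m ∧ 2 ∣ x) ∨ ∃ j, x = 2 * j ∧ j ≤ m ∧ j % 2 = 1 := hx
    have hy' : (1 ≤ y ∧ y ≤ m ∧ 2 ∣ y) ∨ ∃ j, y = 2 * j ∧ j ≤ m ∧ j % 2 = 1 := hy
    obtain ⟨k, hk⟩ : ∃ k, k = (if m % 2 = 0 then m - 1 else m) := ⟨_, rfl⟩
    have hk' : (m % 2 = 0 ∧ k = m - 1) ∨ (m % 2 = 1 ∧ k = m) := by
      rw [hk]
      split_ifs <;> omega
    have hM : Mg (.psu m q) = 2 * k := by rw [hk]; rfl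
    have hxd' : 20 * (2 * k) ∣ 30 * x := hM ▸ hxd
    have hyd' : 30 * (2 * k) ∣ 30 * y := hM ▸ hyd
    clear hx hy hxd hyd h2' hch hY hM hk
    rcases hk' with ⟨hk1, hk2⟩ | ⟨hk1, hk2⟩ <;> rcases hx' with hx' | ⟨j, rfl, hx'⟩ <;>
      rcases hy' with hy' | ⟨l, rfl, hy'⟩ <;> interval_cases m <;> subst hk2 <;> first | omega | exact trivial | exact rfl
  case oplus m q =>
    obtain ⟨hm, -⟩ := hg
    have hb := bd_oplus (ρ := 8) (by omega) h2'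
    have hx' : 1 ≤ x ∧ x ≤ 2 * (m - 1) ∧ (2 ∣ x ∨ x = m) := hx
    have hy' : 1 ≤ y ∧ y ≤ 2 * (m - 1) ∧ (2 ∣ y ∨ y = m) := hy
    have hxd' : 20 * (2 * (m - 1)) ∣ 30 * x := hxd
    have hyd' : 30 * (2 * (m - 1)) ∣ 30 * y := hyd
    have hY8 : 8 ≤ 2 * (m - 1) → 240 ∣ (2 * (m - 1)) * 2 ∨ 240 ∣ (2 * (m - 1)) * 8 ∨ 240 ∣ (2 * (m - 1)) * 12 ∨ 240 ∣ (2 * (m - 1)) * 14 ∨ 240 ∣ (2 * (m - 1)) * 18 ∨ 240 ∣ (2 * (m - 1)) * 20 ∨ 240 ∣ (2 * (m - 1)) * 24 ∨ 240 ∣ (2 * (m - 1)) * 30 := by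
      intro h
      obtain ⟨j, hj, hjd⟩ := hY 8 (by norm_num) (show 4 ≤ 8 ∧ 8 ≤ 2 * (m - 1) ∧ 2 ∣ 8 from ⟨by norm_num, h, by norm_num⟩)
      have hjd' : 30 * 8 ∣ (2 * (m - 1)) * j := hjd
      simp only [List.mem_cons, List.not_mem_nil, or_false] at hj
      norm_num only at hjd'
      rcases hj with rfl | rfl | rfl | rfl | rfl | rfl | rfl | rfl <;> simp only [hjd', true_or, or_true]
    have hY10 : 10 ≤ 2 * (m - 1) → 300 ∣ (2 * (m - 1)) * 2 ∨ 300 ∣ (2 * (m - 1)) * 8 ∨ 300 ∣ (2 * (m - 1)) * 12 ∨ 300 ∣ (2 * (m - 1)) * 14 ∨ 300 ∣ (2 * (m - 1)) * 18 ∨ 300 ∣ (2 * (m - 1)) * 20 ∨ 300 ∣ (2 * (m - 1)) * 24 ∨ 300 ∣ (2 * (m - 1)) * 30 := by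
      intro h
      obtain ⟨j, hj, hjd⟩ := hY 10 (by norm_num) (show 4 ≤ 10 ∧ 10 ≤ 2 * (m - 1) ∧ 2 ∣ 10 from ⟨by norm_num, h, by norm_num⟩)
      have hjd' : 30 * 10 ∣ (2 * (m - 1)) * j := hjd
      simp only [List.mem_cons, List.not_mem_nil, or_false] at hj
      norm_num only at hjd'
      rcases hj with rfl | rfl | rfl | rfl | rfl | rfl | rfl | rfl <;> simp only [hjd', true_or, or_true]
    clear hx hy hxd hyd h2' hch hY
    interval_cases m <;> first | omega | exact trivial | exact rfl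
  case ominus m q =>
    obtain ⟨hm, -⟩ := hg
    have hb := bd_ominus (ρ := 8) (by omega) h2'
    have hx' : 1 ≤ x ∧ x ≤ 2 * m ∧ 2 ∣ x := hx
    have hy' : 1 ≤ y ∧ y ≤ 2 * m ∧ 2 ∣ y := hy
    have hxd' : 20 * (2 * m) ∣ 30 * x := hxd
    have hyd' : 30 * (2 * m) ∣ 30 * y := hyd
    have hY8 : 8 ≤ 2 * m → 240 ∣ (2 * m) * 2 ∨ 240 ∣ (2 * m) * 8 ∨ 240 ∣ (2 * m) * 12 ∨ 240 ∣ (2 * m) * 14 ∨ 240 ∣ (2 * m) * 18 ∨ 240 ∣ (2 * m) * 20 ∨ 240 ∣ (2 * m) * 24 ∨ 240 ∣ (2 * m) * 30 := by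
      intro h
      obtain ⟨j, hj, hjd⟩ := hY 8 (by norm_num) (show 4 ≤ 8 ∧ 8 ≤ 2 * m ∧ 2 ∣ 8 from ⟨by norm_num, h, by norm_num⟩)
      have hjd' : 30 * 8 ∣ (2 * m) * j := hjd
      simp only [List.mem_cons, List.not_mem_nil, or_false] at hj
      norm_num only at hjd'
      rcases hj with rfl | rfl | rfl | rfl | rfl | rfl | rfl | rfl <;> simp only [hjd', true_or, or_true]
    have hY10 : 10 ≤ 2 * m → 300 ∣ (2 * m) * 2 ∨ 300 ∣ (2 * m) * 8 ∨ 300 ∣ (2 * m) * 12 ∨ 300 ∣ (2 * m) * 14 ∨ 300 ∣ (2 * m) * 18 ∨ 300 ∣ (2 * m) * 20 ∨ 300 ∣ (2 * m) * 24 ∨ 300 ∣ (2 * m) * 30 := by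
      intro h
      obtain ⟨j, hj, hjd⟩ := hY 10 (by norm_num) (show 4 ≤ 10 ∧ 10 ≤ 2 * m ∧ 2 ∣ 10 from ⟨by norm_num, h, by norm_num⟩)
      have hjd' : 30 * 10 ∣ (2 * m) * j := hjd
      simp only [List.mem_cons, List.not_mem_nil, or_false] at hj
      norm_num only at hjd'
      rcases hj with rfl | rfl | rfl | rfl | rfl | rfl | rfl | rfl <;> simp only [hjd', true_or, or_true]
    clear hx hy hxd hyd h2' hch hY
    interval_cases m <;> first | omega | exact trivial | exact rfl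
  case g2 q =>
    have hx' : x ∈ [2, 6] := hx
    have hy' : y ∈ [2, 6] := hy
    have hxd' : 20 * 6 ∣ 30 * x := hxd
    have hyd' : 30 * 6 ∣ 30 * y := hyd
    have h4 : 2 * 6 ≤ 8 * 6 := h2'
    simp only [List.mem_cons, List.not_mem_nil, or_false] at hx' hy'
    clear hx hy hxd hyd h2' hch hY
    first | omega | exact trivial | exact rfl
  case f4 q =>
    have hx' : x ∈ [2, 6, 8, 12] := hx
    have hy' : y ∈ [2, 6, 8, 12] := hy
    have hxd' : 20 * 12 ∣ 30 * x := hxd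
    have hyd' : 30 * 12 ∣ 30 * y := hyd
    have h4 : 2 * 24 ≤ 8 * 12 := h2'
    simp only [List.mem_cons, List.not_mem_nil, or_false] at hx' hy'
    clear hx hy hxd hyd h2' hch hY
    first | omega | exact trivial | exact rfl
  case e6 q =>
    obtain ⟨j, hj, hjd⟩ := hY 5 (by norm_num) (by show 5 ∈ _; decide)
    have hjd' : 30 * 5 ∣ 12 * j := hjd
    simp only [List.mem_cons, List.not_mem_nil, or_false] at hj
    exfalso
    rcases hj with rfl | rfl | rfl | rfl | rfl | rfl | rfl | rfl <;> revert hjd' <;> decide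
  case e7 q =>
    obtain ⟨j, hj, hjd⟩ := hY 8 (by norm_num) (by show 8 ∈ _; decide)
    have hjd' : 30 * 8 ∣ 18 * j := hjd
    simp only [List.mem_cons, List.not_mem_nil, or_false] at hj
    exfalso
    rcases hj with rfl | rfl | rfl | rfl | rfl | rfl | rfl | rfl <;> revert hjd' <;> decide
  case e8 q =>
    have hx' : x ∈ [2, 8, 12, 14, 18, 20, 24, 30] := hx
    have hy' : y ∈ [2, 8, 12, 14, 18, 20, 24, 30] := hy
    have hxd' : 20 * 30 ∣ 30 * x := hxd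
    have hyd' : 30 * 30 ∣ 30 * y := hyd
    have h4 : 2 * 120 ≤ 8 * 30 := h2'
    simp only [List.mem_cons, List.not_mem_nil, or_false] at hx' hy'
    clear hx hy hxd hyd h2' hch hY
    first | omega | exact trivial | exact rfl
  case te6 q =>
    obtain ⟨j, hj, hjd⟩ := hY 8 (by norm_num) (by show 8 ∈ _; decide)
    have hjd' : 30 * 8 ∣ 18 * j := hjd
    simp only [List.mem_cons, List.not_mem_nil, or_false] at hj
    exfalso
    rcases hj with rfl | rfl | rfl | rfl | rfl | rfl | rfl | rfl <;> revert hjd' <;> decide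
  case td4 q =>
    have hx' : x ∈ [2, 6, 12] := hx
    have hy' : y ∈ [2, 6, 12] := hy
    have hxd' : 20 * 12 ∣ 30 * x := hxd
    have hyd' : 30 * 12 ∣ 30 * y := hyd
    have h4 : 2 * 12 ≤ 8 * 12 := h2'
    simp only [List.mem_cons, List.not_mem_nil, or_false] at hx' hy'
    clear hx hy hxd hyd h2' hch hY
    first | omega | exact trivial | exact rfl
  case sz q =>
    have hx' : x ∈ [1, 4] := hx
    have hy' : y ∈ [1, 4] := hy
    have hxd' : 20 * 4 ∣ 30 * x := hxd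
    have hyd' : 30 * 4 ∣ 30 * y := hyd
    have h4 : 2 * 2 ≤ 8 * 4 := h2'
    simp only [List.mem_cons, List.not_mem_nil, or_false] at hx' hy'
    clear hx hy hxd hyd h2' hch hY
    first | omega | exact trivial | exact rfl
  case ree q =>
    have hx' : x ∈ [1, 6] := hx
    have hy' : y ∈ [1, 6] := hy
    have hxd' : 20 * 6 ∣ 30 * x := hxd
    have hyd' : 30 * 6 ∣ 30 * y := hyd
    have h4 : 2 * 3 ≤ 8 * 6 := h2'
    simp only [List.mem_cons, List.not_mem_nil, or_false] at hx' hy'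
    clear hx hy hxd hyd h2' hch hY
    first | omega | exact trivial | exact rfl
  case tf4 q =>
    have hx' : x ∈ [1, 6, 4, 12] := hx
    have hy' : y ∈ [1, 6, 4, 12] := hy
    have hxd' : 20 * 12 ∣ 30 * x := hxd
    have hyd' : 30 * 12 ∣ 30 * y := hyd
    have h4 : 2 * 12 ≤ 8 * 12 := h2'
    simp only [List.mem_cons, List.not_mem_nil, or_false] at hx' hy'
    clear hx hy hxd hyd h2' hch hY
    first | omega | exact trivial | exact rfl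
  all_goals exact absurd hch not_false


end Cfsg.Agent.H290.Cov30
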