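import Cfsg.Agent.H290.Cov.N30
import Cfsg.Agent.H563.KG.Tab

/-!
# Cross characteristic for the classes 20, 24, 30 (helper290, after helper563's `KG.Tab`)
-/

set_option autoImplicit false
set_option exponentiation.threshold 700

namespace Cfsg.Agent.H290.Cov30

open Cfsg.Agent.H902 Cfsg.Agent.H290.ElReg Cfsg.Agent.H290.ElTab Cfsg.Agent.H290.ElCross Cfsg.Agent.H563.KG
open Cfsg.Agent.H436 (Prim)

/-- the test at a small field -/
def tq (Y : Art.Sh) (cls : List ℕ) (M d q : ℕ) : Bool :=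
  cls.all (fun e => M % ncl e q == 0) && ((d * OL Y q) % M == 0)

/-- the survivors -/
def svR (n : ℕ) (Y : Art.Sh) (cls : List ℕ) : Bool := (reg n).all fun x => sm.all fun y =>
  y.1 == x.2.1 || !(tq Y cls (OL x.1 (x.2.1 ^ x.2.2)) (Art.dd x.1 (x.2.1 ^ x.2.2)) y.2)

def svS (Y : Art.Sh) (cls : List ℕ) : Bool := Cfsg.Agent.OrdDiv.spor.all fun x => sm.all fun y => !(tq Y cls x.2 1 y.2)

/-- the bound -/
def bndR (n e : ℕ) : Bool := (reg n).all fun x =>
  Nat.ble (De (pd (NS x.1 x.2.1 x.2.2)) (OL x.1 (x.2.1 ^ x.2.2)) e) 600000 &&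
    Nat.blt (OL x.1 (x.2.1 ^ x.2.2)) (2 ^ 600)

def bndS (e : ℕ) : Bool := Cfsg.Agent.OrdDiv.spor.all fun x => Nat.ble (De (pd x.2) x.2 e) 600000 && Nat.blt x.2 (2 ^ 600)

theorem bndR_248_30 : bndR 248 30 = true := by decide +kernel
theorem bndS_30 : bndS 30 = true := by decide +kernel
theorem svR_E8a : svR 248 .E8 [24, 30] = true := by decide +kernel
theorem svR_E8b : svR 248 .E8 [20, 30] = true := by decide +kernel
theorem svS_E8a : svS .E8 [24, 30] = true := by decide +kernel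
theorem svS_E8b : svS .E8 [20, 30] = true := by decide +kernel

/-- the small-field test is passed -/
theorem tq_of {Y : Art.Sh} {cls : List ℕ} {M d N q : ℕ} (hcls : ∀ e ∈ cls, ncl e q ∣ M) (hM : M = d * N)
    (hd : N ∣ OL Y q) : tq Y cls M d q = true := by
  unfold tq
  simp only [Bool.and_eq_true, List.all_eq_true, beq_iff_eq]
  exact ⟨fun e he => Nat.mod_eq_zero_of_dvd (hcls e he), Nat.mod_eq_zero_of_dvd (hM ▸ Nat.mul_dvd_mul_left d hd)⟩

variable {n : ℕ} {Y : Art.Sh} {cls : List ℕ} {e₀ p f : ℕ}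

/-- **Cross characteristic.** -/
theorem no_cross (hn : n ≤ 248) (hb : bndR n e₀ = true) (hs : svR n Y cls = true) (he₀ : Cls e₀) (hmem : e₀ ∈ cls)
    (hle : ∀ q, ncl e₀ q ≤ 600000 → q ≤ 7) {X : Art.Sh} {l a N : ℕ}
    (hR : Art.Real X l a N) (hlb : lb X (l ^ a) ≤ n) (hp : p.Prime) (hf : 1 ≤ f) (hpl : p ≠ l)
    (hcls : ∀ e ∈ cls, ncl e (p ^ f) ∣ N) (hd : N ∣ OL Y (p ^ f)) : False := by
  obtain ⟨hl, ha, hokX, heq⟩ := hR
  have hq : 2 ≤ p ^ f := hp.two_le.trans (Nat.le_self_pow (by omega) p)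
  have hreg := mem_reg hn hl ha hokX hlb
  have hs' : smooth (NA X l a) = true :=
    List.all_eq_true.1 smooth_reg (X, (l, a)) (mem_reg le_rfl hl ha hokX (hlb.trans hn))
  have hsS : smooth (NS X l a) = true := by
    have h1 : NS X l a ∣ NA X l a := Dvd.intro_left _ rfl
    have h2 : NA X l a ∣ prs.prod ^ 100 := Nat.dvd_of_mod_eq_zero (by simpa [smooth] using hs')
    simpa [smooth] using Nat.mod_eq_zero_of_dvd (h1.trans h2)
  have hM : OL X (l ^ a) = Art.dd X (l ^ a) * N := by unfold OL; rw [numL_eq]; exact heq.symm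
  have hNM : N ∣ OL X (l ^ a) := Dvd.intro_left _ hM.symm
  have hNS : ∀ r, r.Prime → r ∣ N → r ∣ NS X l a := by
    intro r hr h
    unfold NS
    have h1 : r ∣ (l ^ a) ^ Art.NN X * numL X (l ^ a) := h.trans hNM
    rcases hr.dvd_mul.1 h1 with h2 | h2
    · exact (hr.dvd_of_dvd_pow (hr.dvd_of_dvd_pow h2)).mul_right _
    · exact h2.mul_left _
  have hb' := List.all_eq_true.1 hb (X, (l, a)) hreg
  simp only [Bool.and_eq_true, Nat.ble_eq, Nat.blt_eq] at hb'
  have hM0 : OL X (l ^ a) ≠ 0 := by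
    intro h0
    have h1 := List.all_eq_true.1 hs (X, (l, a)) hreg
    -- `M = 0` is impossible: `De 0 = ...`
    have h2 : ncl e₀ (p ^ f) ∣ N := hcls e₀ hmem
    have h3 : l ^ a ≠ 0 := pow_ne_zero _ hl.ne_zero
    have h4 : NS X l a ≠ 0 := by
      intro h5
      have h6 : NS X l a ∣ prs.prod ^ 100 := Nat.dvd_of_mod_eq_zero (by simpa [smooth] using hsS)
      rw [h5] at h6
      have h7 := Nat.eq_zero_of_zero_dvd h6
      have h8 : prs.prod ≠ 0 := by decide +kernel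
      exact pow_ne_zero 100 h8 h7
    apply h4
    unfold OL at h0
    rcases Nat.mul_eq_zero.1 h0 with h5 | h5
    · exact absurd h5 (pow_ne_zero _ h3)
    · unfold NS
      rw [h5, mul_zero]
  have h1 : ncl e₀ (p ^ f) ∣ De (pd (NS X l a)) (OL X (l ^ a)) e₀ := by
    refine dvd_De hM0 hb'.2 ((hcls e₀ hmem).trans hNM) fun r hr hrd => ?_
    have hprim := prim_of_dvd he₀ (by omega) hr hrd
    exact ⟨mem_pd hsS hr (hNS r hr (hrd.trans (hcls e₀ hmem))), mod_of_prim hq (by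
      have := he₀.ge
      omega) hprim⟩
  have h2 : ncl e₀ (p ^ f) ≤ 600000 := by
    have h3 : De (pd (NS X l a)) (OL X (l ^ a)) e₀ ≠ 0 := by
      unfold De
      intro h4
      rw [List.prod_eq_zero_iff, List.mem_map] at h4
      obtain ⟨r, -, h5⟩ := h4
      exact hM0 (Nat.eq_zero_of_gcd_eq_zero_left h5)
    exact (Nat.le_of_dvd (Nat.pos_of_ne_zero h3) h1).trans hb'.1
  have h3 := mem_sm hp hf (hle _ h2)
  have h4 := List.all_eq_true.1 (List.all_eq_true.1 hs (X, (l, a)) hreg) _ h3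
  rw [tq_of (fun e he => (hcls e he).trans hNM) hM hd] at h4
  simp at h4
  exact hpl h4

/-- **Sporadic groups.** -/
theorem no_spor (hb : bndS e₀ = true) (hs : svS Y cls = true) (he₀ : Cls e₀) (hmem : e₀ ∈ cls)
    (hle : ∀ q, ncl e₀ q ≤ 600000 → q ≤ 7) {x : Cfsg.Agent.OrdDiv.Grp × ℕ} (hx : x ∈ Cfsg.Agent.OrdDiv.spor)
    (hp : p.Prime) (hf : 1 ≤ f)
    (hcls : ∀ e ∈ cls, ncl e (p ^ f) ∣ x.2) (hd : x.2 ∣ OL Y (p ^ f)) : False := by
  have hq : 2 ≤ p ^ f := hp.two_le.trans (Nat.le_self_pow (by omega) p)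
  have hs' : smooth x.2 = true := List.all_eq_true.1 smooth_spor x hx
  have hb' := List.all_eq_true.1 hb x hx
  simp only [Bool.and_eq_true, Nat.ble_eq, Nat.blt_eq] at hb'
  have hM0 : x.2 ≠ 0 := by
    have : ∀ x ∈ Cfsg.Agent.OrdDiv.spor, x.2 ≠ 0 := by decide +kernel
    exact this x hx
  have h1 : ncl e₀ (p ^ f) ∣ De (pd x.2) x.2 e₀ := by
    refine dvd_De hM0 hb'.2 (hcls e₀ hmem) fun r hr hrd => ?_
    have hprim := prim_of_dvd he₀ (by omega) hr hrd
    exact ⟨mem_pd hs' hr (hrd.trans (hcls e₀ hmem)), mod_of_prim hq (by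
      have := he₀.ge
      omega) hprim⟩
  have h2 : ncl e₀ (p ^ f) ≤ 600000 := by
    have h3 : De (pd x.2) x.2 e₀ ≠ 0 := by
      unfold De
      intro h4
      rw [List.prod_eq_zero_iff, List.mem_map] at h4
      obtain ⟨r, -, h5⟩ := h4
      exact hM0 (Nat.eq_zero_of_gcd_eq_zero_left h5)
    exact (Nat.le_of_dvd (Nat.pos_of_ne_zero h3) h1).trans hb'.1
  have h3 := mem_sm hp hf (hle _ h2)
  have h4 := List.all_eq_true.1 (List.all_eq_true.1 hs x hx) _ h3
  rw [tq_of hcls (one_mul _).symm hd] at h4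
  simp at h4

end Cfsg.Agent.H290.Cov30
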