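import Cfsg.Agent.H290.Cov.TFm
import Cfsg.Agent.H290.Cov.Off
import Cfsg.Agent.H129.CycCardF

/-!
# `²F₄(q)` is not the union of the conjugates of two proper subgroups (helper290)

Generators of the tori of orders `q² + √(2q) q + q + √(2q) + 1`, `q² - √(2q) q + q - √(2q) + 1`, `q² - q + 1`.
-/

set_option autoImplicit false

namespace Cfsg.Agent.H290.TFk

open Cfsg Cfsg.Lie Cfsg.Agent Cfsg.Agent.OrdDiv Cfsg.Agent.H436 Cfsg.Agent.H563.KG Cfsg.Agent.H278.Cov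
  Cfsg.Agent.H56.Exc Cfsg.Agent.H290.KTF4 Cfsg.Agent.H290.TFn Cfsg.Agent.H290.Cov30

/-- a subgroup containing a conjugate of an element of order `k`, `|T| = k K` -/
theorem not_dvd_index_of_mem {T : Type*} [Group T] [Finite T] {k r : ℕ} {K : ℤ} (hG : (Nat.card T : ℤ) = k * K)
    (hK : (K : ZMod r) ≠ 0) {x : T} (hx : orderOf x = k) {B : Subgroup T} {g : T}
    (hB : g * x * g⁻¹ ∈ B) : ¬ r ∣ B.index := by
  intro hd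
  have h1 : orderOf (g * x * g⁻¹) = k := by
    rw [← hx]
    exact orderOf_injective (MulAut.conj g).toMonoidHom (MulAut.conj g).injective x
  have h2 : k ∣ Nat.card B := by
    rw [← h1, ← Subgroup.orderOf_mk _ hB]
    exact orderOf_dvd_natCard _
  obtain ⟨j, hj⟩ := h2
  have h3 : (k : ℤ) * (j * B.index) = k * K := by
    rw [← hG, ← B.card_mul_index, hj]
    push_cast
    ring
  have hm0 : (k : ℤ) ≠ 0 := by
    intro h0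
    rw [h0, zero_mul] at hG
    exact Nat.card_pos.ne' (by exact_mod_cast hG)
  have h4 := mul_left_cancel₀ hm0 h3
  apply hK
  rw [← h4]
  push_cast
  rw [(ZMod.natCast_eq_zero_iff B.index r).2 hd, mul_zero]

theorem nz {κ s : ℕ} (h0 : 0 < κ) (h1 : κ < s) : ((κ : ℕ) : ZMod s) ≠ 0 := fun h => by
  have := Nat.le_of_dvd h0 ((ZMod.natCast_eq_zero_iff _ _).1 h)
  omega

/-- a generator of the torus -/
theorem exists_gen' {T : Type*} [Group T] {r k : ℕ} (h : Cfsg.Agent.H129.CycCard.CycCard T r k 1) :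
    ∃ x : T, orderOf x = k := by
  obtain ⟨C, hC, h1, h2, -, -⟩ := h
  have h3 : Nat.card C = k := Nat.dvd_antisymm h1 (by simpa using h2)
  obtain ⟨x, hx⟩ := hC.exists_generator
  refine ⟨(x : T), ?_⟩
  rw [Subgroup.orderOf_coe, ← h3, orderOf_eq_card_of_forall_mem_zpowers hx]

section model

variable {F : Type} [Field F] [Fintype F] {m : ℕ}

theorem exists_plus (hF : Fintype.card F = 2 ^ (2 * m + 1)) (hm : 1 ≤ m) : ∃ x : ↥(twistedF4 F (2 ^ m)),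
    ∀ (B : Subgroup ↥(twistedF4 F (2 ^ m))) (g : ↥(twistedF4 F (2 ^ m))), g * x * g⁻¹ ∈ B →
      ∀ r, clTF (2 ^ m) 0 r → ¬ r ∣ B.index := by
  obtain ⟨r, hr⟩ := exists_mP hm
  have hi : ∀ {r : ℕ}, clTF (2 ^ m) 0 r → (r : ℤ) ∣ 1 + 2 * ((2 ^ m : ℕ) : ℤ) + 2 * ((2 ^ m : ℕ) : ℤ) ^ 2 +
      4 * ((2 ^ m : ℕ) : ℤ) ^ 3 + 4 * ((2 ^ m : ℕ) : ℤ) ^ 4 := fun {r} hr => by
    rw [← cast_mP]; exact Int.natCast_dvd_natCast.2 hr.2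
  have hc : Cfsg.Agent.H129.CycCard.CycCard ↥(twistedF4 F (2 ^ m)) r (mP (2 ^ m)) 1 := by
    refine Cfsg.Agent.H129.CycCard.card_tF4_plus hF ?_ hr.1 ?_
    · rw [cast_mP]; push_cast; ring
    · have := hi hr
      push_cast at this; exact this
  obtain ⟨x, hx⟩ := exists_gen' hc
  refine ⟨x, fun B g hB s hs => not_dvd_index_of_mem (K := (2 * ((2 ^ m : ℕ) : ℤ) ^ 2) ^ 12 *
      (2 * ((2 ^ m : ℕ) : ℤ) ^ 2 - 1) *
      ((2 * ((2 ^ m : ℕ) : ℤ) ^ 2) ^ 3 + 1) * ((2 * ((2 ^ m : ℕ) : ℤ) ^ 2) ^ 4 - 1) *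
      ((2 * ((2 ^ m : ℕ) : ℤ) ^ 2) ^ 2 + 1) * (1 - 2 * ((2 ^ m : ℕ) : ℤ) + 2 * ((2 ^ m : ℕ) : ℤ) ^ 2 -
        4 * ((2 ^ m : ℕ) : ℤ) ^ 3 + 4 * ((2 ^ m : ℕ) : ℤ) ^ 4)) ?_ ?_ hx hB⟩
  · rw [ord_TF4 hF, cast_mP]; ring
  · have hz : (1 + 2 * ((2 ^ m : ℕ) : ZMod s) + 2 * ((2 ^ m : ℕ) : ZMod s) ^ 2 + 4 * ((2 ^ m : ℕ) : ZMod s) ^ 3 +
        4 * ((2 ^ m : ℕ) : ZMod s) ^ 4) = 0 := by
      have h1 := hi hs
      rw [← ZMod.intCast_zmod_eq_zero_iff_dvd] at h1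
      push_cast at h1 ⊢
      exact h1
    have h1 := kap_TF_plus _ hz
    have h2 := nz (show 0 < 12 by norm_num) (lt12 hm (Or.inl hs))
    push_cast at h1 h2 ⊢
    rw [h1]
    exact_mod_cast h2

theorem exists_minus (hF : Fintype.card F = 2 ^ (2 * m + 1)) (hm : 1 ≤ m) : ∃ x : ↥(twistedF4 F (2 ^ m)),
    ∀ (B : Subgroup ↥(twistedF4 F (2 ^ m))) (g : ↥(twistedF4 F (2 ^ m))), g * x * g⁻¹ ∈ B →
      ∀ r, clTF (2 ^ m) 1 r → ¬ r ∣ B.index := by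
  obtain ⟨r, hr⟩ := exists_mM hm
  have hx2 := hx hm
  have hi : ∀ {r : ℕ}, clTF (2 ^ m) 1 r → (r : ℤ) ∣ 1 - 2 * ((2 ^ m : ℕ) : ℤ) + 2 * ((2 ^ m : ℕ) : ℤ) ^ 2 -
      4 * ((2 ^ m : ℕ) : ℤ) ^ 3 + 4 * ((2 ^ m : ℕ) : ℤ) ^ 4 := fun {r} hr => by
    rw [← cast_mM hx2]; exact Int.natCast_dvd_natCast.2 hr.2
  have hc : Cfsg.Agent.H129.CycCard.CycCard ↥(twistedF4 F (2 ^ m)) r (mM (2 ^ m)) 1 := by
    refine Cfsg.Agent.H129.CycCard.card_tF4_minus hF ?_ hr.1 ?_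
    · rw [cast_mM hx2]; push_cast; ring
    · have := hi hr
      push_cast at this; exact this
  obtain ⟨x, hx⟩ := exists_gen' hc
  refine ⟨x, fun B g hB s hs => not_dvd_index_of_mem (K := (2 * ((2 ^ m : ℕ) : ℤ) ^ 2) ^ 12 *
      (2 * ((2 ^ m : ℕ) : ℤ) ^ 2 - 1) *
      ((2 * ((2 ^ m : ℕ) : ℤ) ^ 2) ^ 3 + 1) * ((2 * ((2 ^ m : ℕ) : ℤ) ^ 2) ^ 4 - 1) *
      ((2 * ((2 ^ m : ℕ) : ℤ) ^ 2) ^ 2 + 1) * (1 + 2 * ((2 ^ m : ℕ) : ℤ) + 2 * ((2 ^ m : ℕ) : ℤ) ^ 2 +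
        4 * ((2 ^ m : ℕ) : ℤ) ^ 3 + 4 * ((2 ^ m : ℕ) : ℤ) ^ 4)) ?_ ?_ hx hB⟩
  · rw [ord_TF4 hF, cast_mM hx2]; ring
  · have hz : (1 - 2 * ((2 ^ m : ℕ) : ZMod s) + 2 * ((2 ^ m : ℕ) : ZMod s) ^ 2 - 4 * ((2 ^ m : ℕ) : ZMod s) ^ 3 +
        4 * ((2 ^ m : ℕ) : ZMod s) ^ 4) = 0 := by
      have h1 := hi hs
      rw [← ZMod.intCast_zmod_eq_zero_iff_dvd] at h1
      push_cast at h1 ⊢
      exact h1
    have h1 := kap_TF_minus _ hz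
    have h2 := nz (show 0 < 12 by norm_num) (lt12 hm (Or.inr hs))
    push_cast at h1 h2 ⊢
    rw [h1]
    exact_mod_cast h2

theorem exists_six (hF : Fintype.card F = 2 ^ (2 * m + 1)) (hm : 1 ≤ m) : ∃ x : ↥(twistedF4 F (2 ^ m)),
    ∀ (B : Subgroup ↥(twistedF4 F (2 ^ m))) (g : ↥(twistedF4 F (2 ^ m))), g * x * g⁻¹ ∈ B →
      ∀ r, Prim (2 ^ (2 * m + 1)) 6 r → ¬ r ∣ B.index := by
  have h8 := hq8 hm
  obtain ⟨r, hr⟩ := exists_prim (q := 2 ^ (2 * m + 1)) (e := 6) (by omega) (by norm_num) (by omega)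
  have hx2 := hx hm
  have hi : ∀ {r : ℕ}, Prim (2 ^ (2 * m + 1)) 6 r → (r : ℤ) ∣ 1 - 2 * ((2 ^ m : ℕ) : ℤ) ^ 2 +
      4 * ((2 ^ m : ℕ) : ℤ) ^ 4 := fun {r} hr => by
    rw [← q_TF] at hr
    have h1 := prim_dvd_6 hr
    have e : (1 - 2 * ((2 ^ m : ℕ) : ℤ) ^ 2 + 4 * ((2 ^ m : ℕ) : ℤ) ^ 4) =
      1 - ((2 * (2 ^ m) ^ 2 : ℕ) : ℤ) + ((2 * (2 ^ m) ^ 2 : ℕ) : ℤ) ^ 2 := by push_cast; ring
    rw [e]; exact h1
  have h6lt : ∀ s, Prim (2 ^ (2 * m + 1)) 6 s → 6 < s := fun s hs => Cfsg.Agent.H56.Exc.prim_lt hs (by norm_num)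
  have hc : Cfsg.Agent.H129.CycCard.CycCard ↥(twistedF4 F (2 ^ m)) r (m6 (2 ^ m)) 1 := by
    refine Cfsg.Agent.H129.CycCard.card_tF4_6 hF ?_ hr.prime ?_ (by have := h6lt r hr; omega)
    · rw [cast_m6 hx2]; push_cast; ring
    · have := hi hr
      push_cast at this; exact this
  obtain ⟨x, hx⟩ := exists_gen' hc
  refine ⟨x, fun B g hB s hs => not_dvd_index_of_mem (K := (2 * ((2 ^ m : ℕ) : ℤ) ^ 2) ^ 12 *
      (2 * ((2 ^ m : ℕ) : ℤ) ^ 2 - 1) *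
      (2 * ((2 ^ m : ℕ) : ℤ) ^ 2 + 1) * ((2 * ((2 ^ m : ℕ) : ℤ) ^ 2) ^ 4 - 1) *
      ((2 * ((2 ^ m : ℕ) : ℤ) ^ 2) ^ 6 + 1)) ?_ ?_ hx hB⟩
  · rw [ord_TF4 hF, cast_m6 hx2]; ring
  · have hz : (1 - 2 * ((2 ^ m : ℕ) : ZMod s) ^ 2 + 4 * ((2 ^ m : ℕ) : ZMod s) ^ 4) = 0 := by
      have h1 := hi hs
      rw [← ZMod.intCast_zmod_eq_zero_iff_dvd] at h1
      push_cast at h1 ⊢
      exact h1
    have h1 := kap_TF_6 _ hz
    have h2 := nz (show 0 < 6 by norm_num) (h6lt s hs)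
    push_cast at h1 h2 ⊢
    rw [h1]
    exact_mod_cast h2

/-- two properties of the index -/
theorem inc_of_props {T : Type*} [Group T] {x y : T} {P Q : Subgroup T → Prop}
    (hx : ∀ (B : Subgroup T) (g : T), g * x * g⁻¹ ∈ B → P B) (hy : ∀ (B : Subgroup T) (g : T), g * y * g⁻¹ ∈ B → Q B)
    (hK : ∀ B : Subgroup T, P B → Q B → B = ⊤) : Inc x y := by
  intro B hB
  by_contra hcon
  push Not at hcon
  obtain ⟨g, hg⟩ := not_av hcon.1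
  obtain ⟨g', hg'⟩ := not_av hcon.2
  exact hB (hK B (hx B g hg) (hy B g' hg'))

theorem noTwo_twF4 (tb : OrderTable.{0}) (hcyc : CycFixSolv.{0}) (hcf : ∀ (S : Type) [Group S] [Finite S] [IsSimpleGroup S], IsKnownSimple' S) (hF : Fintype.card F = 2 ^ (2 * m + 1))
    (hm : 1 ≤ m) : NoTwo ↥(twistedF4 F (2 ^ m)) := by
  obtain ⟨x, hx⟩ := exists_plus hF hm
  obtain ⟨y, hy⟩ := exists_minus hF hm
  obtain ⟨z, hz⟩ := exists_six hF hm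
  refine noTwo_of_three (x := x) (y := y) (z := z) ?_ ?_ ?_
  · exact inc_of_props hx hy fun B h1 h2 => kfull_tf4 tb hcyc hcf hF hm B fun r hr => hr.elim (h1 r) (h2 r)
  · exact inc_of_props hy hz fun B h1 h2 => K_TF46 tb hcyc hcf hF hm (Or.inr rfl) B (fun r h3 h4 => h1 r ⟨h3, h4⟩) h2
  · exact inc_of_props hx hz fun B h1 h2 => K_TF46 tb hcyc hcf hF hm (Or.inl rfl) B (fun r h3 h4 => h1 r ⟨h3, h4⟩) h2

end model

/-- **`²F₄(q)`.** -/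
theorem noTwo_tf4 (tb : OrderTable.{0}) (hcyc : CycFixSolv.{0}) (hcf : ∀ (S : Type) [Group S] [Finite S] [IsSimpleGroup S], IsKnownSimple' S) {q : ℕ} {T : Type*} [Group T]
    (h : IsNamed (.tf4 q) T) : NoTwo T := by
  obtain ⟨F, _, _, m, hm, hF, hq, ⟨e⟩⟩ := h.real
  rw [hq] at hF
  exact (noTwo_twF4 (F := F) tb hcyc hcf hF hm).congr e.symm

end Cfsg.Agent.H290.TFk
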