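import Cfsg.Agent.H290.Cov.TFn
import Cfsg.Agent.H290.KTF4g
import Cfsg.Agent.H325.IsoFree
import Cfsg.Agent.H325.Iso2F4

/-!
# Subgroups of `²F₄(q)` of index prime to one factor of `Φ₁₂(q)` and to class 6 (helper290)
-/

set_option autoImplicit false

namespace Cfsg.Agent.H290.TFk

open Cfsg Cfsg.Lie Cfsg.Agent Cfsg.Agent.OrdDiv Cfsg.Agent.H436 Cfsg.Agent.H902 Cfsg.Agent.H290.ElReg Cfsg.Agent.H290.ElTab
  Cfsg.Agent.H563.KG Cfsg.Agent.H915.GN Cfsg.Agent.H264.GN Cfsg.Agent.H264.FKS Cfsg.Agent.H325.Same Cfsg.Agent.H325.Loc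
  Cfsg.Agent.H56.Exc Cfsg.Agent.H290.KTF4 Cfsg.Agent.H290.TFn Cfsg.Agent.H187 Cfsg.Agent.Nodes.Reps
open Subgroup (normalizer)

section core

set_option linter.unusedSectionVars false

variable {F : Type} [Field F] [Fintype F] {m : ℕ} (hm : 1 ≤ m) (hK : Fintype.card F = 2 ^ (2 * m + 1))

include hm in
theorem no_norm_lt {r s : ℕ} (hr : Prim (2 ^ (2 * m + 1)) 12 r)
    (hcr : ∀ x : ↥(twistedF4 F (2 ^ m)), orderOf x = r → ¬ 2 ∣ Nat.card ↥(Subgroup.centralizer ({x} : Set ↥(twistedF4 F (2 ^ m)))))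
    (hs : Prim 2 ((2 * m + 1) * 6) s)
    (hcs : ∀ x : ↥(twistedF4 F (2 ^ m)), orderOf x = s → ¬ 2 ∣ Nat.card ↥(Subgroup.centralizer ({x} : Set ↥(twistedF4 F (2 ^ m)))))
    {V : Subgroup ↥(twistedF4 F (2 ^ m))} {a : ℕ} (hV : Nat.card V = 2 ^ a) (ha0 : a ≠ 0) (ha : a < 12 * (2 * m + 1))
    (hrN : r ∣ Nat.card ↥(normalizer (V : Set ↥(twistedF4 F (2 ^ m)))))
    (hsN : s ∣ Nat.card ↥(normalizer (V : Set ↥(twistedF4 F (2 ^ m))))) : False := by
  have hfact : Fact (Nat.Prime 2) := ⟨Nat.prime_two⟩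
  have hVp : IsPGroup 2 V := IsPGroup.of_card hV
  have key : ∀ w : ℕ, w.Prime → (∀ x : ↥(twistedF4 F (2 ^ m)), orderOf x = w →
      ¬ 2 ∣ Nat.card ↥(Subgroup.centralizer ({x} : Set ↥(twistedF4 F (2 ^ m))))) →
      w ∣ Nat.card ↥(normalizer (V : Set ↥(twistedF4 F (2 ^ m)))) → w ∣ 2 ^ a - 1 := by
    intro w hw hc hd
    have : Fact w.Prime := ⟨hw⟩
    obtain ⟨x, hx⟩ := exists_prime_orderOf_dvd_card' w hd
    have hxo : orderOf (x : ↥(twistedF4 F (2 ^ m))) = w := by rw [Subgroup.orderOf_coe, hx]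
    rw [← hV]
    exact Cfsg.Agent.H325.IsoFree.dvd_card_sub_one hw hVp hxo x.2 (hc _ hxo)
  have h1 := key r hr.prime hcr hrN
  have h2 := key s hs.prime hcs hsN
  rw [hs.dvd_iff] at h2
  obtain ⟨k, hk⟩ := h2
  have hk1 : k = 1 := by
    have h3 : k ≠ 0 := by
      rintro rfl
      exact ha0 (by rw [hk, mul_zero])
    have h4 : k < 2 := by
      by_contra hcon
      have h5 : (2 * m + 1) * 6 * 2 ≤ (2 * m + 1) * 6 * k := Nat.mul_le_mul_left _ (by omega)
      omega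
    omega
  rw [hk1, mul_one] at hk
  rw [hk, pow_mul, hr.dvd_iff] at h1
  revert h1
  norm_num

include hm hK in
/-- no nontrivial 2-subgroup is normalised by elements of class 6 and of class 12 -/
theorem no_norm {r s : ℕ} (hr : Prim (2 ^ (2 * m + 1)) 12 r)
    (hcr : ∀ x : ↥(twistedF4 F (2 ^ m)), orderOf x = r → ¬ 2 ∣ Nat.card ↥(Subgroup.centralizer ({x} : Set ↥(twistedF4 F (2 ^ m)))))
    (hs : Prim 2 ((2 * m + 1) * 6) s)
    (hcs : ∀ x : ↥(twistedF4 F (2 ^ m)), orderOf x = s → ¬ 2 ∣ Nat.card ↥(Subgroup.centralizer ({x} : Set ↥(twistedF4 F (2 ^ m)))))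
    {V : Subgroup ↥(twistedF4 F (2 ^ m))} (hV : IsPGroup 2 V) (hV1 : V ≠ ⊥)
    (hrN : r ∣ Nat.card ↥(normalizer (V : Set ↥(twistedF4 F (2 ^ m)))))
    (hsN : s ∣ Nat.card ↥(normalizer (V : Set ↥(twistedF4 F (2 ^ m))))) : False := by
  have hfact : Fact (Nat.Prime 2) := ⟨Nat.prime_two⟩
  obtain ⟨a, ha⟩ := hV.exists_card_eq
  have ha0 : a ≠ 0 := by
    rintro rfl
    rw [pow_zero] at ha
    exact hV1 (Subgroup.eq_bot_of_card_eq _ ha)
  have hcard := Cfsg.Agent.H325.IsoTwF4.card_eq hm hK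
  have hodd := Cfsg.Agent.H325.IsoTwF4.not_two_dvd hm hK
  have hle : 2 ^ a ∣ 2 ^ (12 * (2 * m + 1)) := by
    have h1 := Subgroup.card_subgroup_dvd_card V
    rw [ha, hcard] at h1
    exact (((Nat.Prime.coprime_iff_not_dvd Nat.prime_two).2 hodd).pow_left a).dvd_of_dvd_mul_right h1
  have hae : a ≤ 12 * (2 * m + 1) := (Nat.pow_dvd_pow_iff_le_right (by norm_num)).1 hle
  have hsimp := (Cfsg.Agent.S1072.result hm hK).1
  rcases Nat.lt_or_eq_of_le hae with hlt | heq
  · exact no_norm_lt hm hr hcr hs hcs ha ha0 hlt hrN hsN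
  · have hidx : ¬ 2 ∣ (normalizer (V : Set ↥(twistedF4 F (2 ^ m)))).index := by
      intro h1
      have h2 : 2 ∣ V.index := h1.trans (Subgroup.index_dvd_of_le Subgroup.le_normalizer)
      have h3 := V.card_mul_index
      rw [ha, heq, hcard] at h3
      have h5 := Nat.eq_of_mul_eq_mul_left (by positivity) h3
      exact hodd (h5 ▸ h2)
    have hrT : r ∣ Nat.card ↥(twistedF4 F (2 ^ m)) := hrN.trans (Subgroup.card_subgroup_dvd_card _)
    have hr2 : r ≠ 2 := by
      rintro rfl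
      exact hr.not_dvd (dvd_pow_self 2 (by omega))
    have hT2 : ¬ IsPGroup 2 ↥(twistedF4 F (2 ^ m)) := by
      intro h
      obtain ⟨b, hb⟩ := h.exists_card_eq
      rw [hb] at hrT
      exact hr2 ((Nat.prime_dvd_prime_iff_eq hr.prime Nat.prime_two).1 (hr.prime.dvd_of_dvd_pow hrT))
    have htop : normalizer (V : Set ↥(twistedF4 F (2 ^ m))) ≠ ⊤ := by
      intro h0
      have hQn : V.Normal := Subgroup.normalizer_eq_top_iff.1 h0
      rcases hQn.eq_bot_or_eq_top with h1 | h1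
      · exact hV1 h1
      · apply hT2
        rw [h1] at hV
        exact hV.of_equiv Subgroup.topEquiv
    obtain ⟨φ, hφ⟩ := Cfsg.Agent.ChevalleyStructure.TwF4.TwistedFix.exists_rln hK
    have := Cfsg.Agent.ChevalleyStructure.TwF4.Twisted.charP_two hK
    have hF : ∃ c : Fˣ, c ≠ 1 := by
      have h1 : 1 < Nat.card Fˣ := by
        rw [Nat.card_units, Nat.card_eq_fintype_card, hK]
        have : 2 ^ 3 ≤ 2 ^ (2 * m + 1) := Nat.pow_le_pow_right (by norm_num) (by omega)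
        omega
      have h2 : Nontrivial Fˣ := Finite.one_lt_card_iff_nontrivial.1 h1
      exact exists_ne 1
    let S := Cfsg.Agent.KFacts.TwF4.Inst.full hK hφ
    have hR : S.R.p = 2 := rfl
    obtain ⟨g, hg⟩ := TwF4Par.exists_conj_le_norm (S := S) hF hR htop (fun h => hidx (dvd_trans (by norm_num) h))
    have hcj : Nat.card ↥(cj g (normalizer (V : Set ↥(twistedF4 F (2 ^ m))))) =
        Nat.card ↥(normalizer (V : Set ↥(twistedF4 F (2 ^ m)))) :=
      Nat.card_congr ((normalizer (V : Set ↥(twistedF4 F (2 ^ m)))).equivMapOfInjective (MulAut.conj g).toMonoidHom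
        (MulAut.conj g).injective).toEquiv.symm
    rw [← hcj] at hrN hsN
    have fin : ∀ (W : Subgroup ↥(twistedF4 F (2 ^ m))) (b : ℕ), b < 12 * (2 * m + 1) → Nat.card W = 2 ^ b →
        IsPGroup 2 ↥(Subgroup.centralizer (W : Set ↥(twistedF4 F (2 ^ m)))) →
        cj g (normalizer (V : Set ↥(twistedF4 F (2 ^ m)))) ≤ normalizer (W : Set ↥(twistedF4 F (2 ^ m))) → False := by
      intro W b hb hW hc hle
      refine no_norm_lt hm hr hcr hs hcs hW ?_ hb (hrN.trans (Subgroup.card_dvd_of_le hle))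
        (hsN.trans (Subgroup.card_dvd_of_le hle))
      rintro rfl
      rw [pow_zero] at hW
      have h1 : W = ⊥ := Subgroup.eq_bot_of_card_eq _ hW
      have h2 : Subgroup.centralizer (W : Set ↥(twistedF4 F (2 ^ m))) = ⊤ := by
        rw [h1, eq_top_iff]
        intro x _
        rw [Subgroup.mem_centralizer_iff]
        intro y hy
        rw [Subgroup.coe_bot, Set.mem_singleton_iff] at hy
        rw [hy, one_mul, mul_one]
      rw [h2] at hc
      exact hT2 (hc.of_equiv Subgroup.topEquiv)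
    rcases hg with hg | hg
    · obtain ⟨b, hb, hVb⟩ := TwF4Par.card_lt hcard hodd hR (TwF4Par.J28_lt (S := S))
      exact fin _ b hb hVb (TwF4Par.cent28 hR) hg
    · obtain ⟨b, hb, hVb⟩ := TwF4Par.card_lt hcard hodd hR (TwF4Par.J17_lt (S := S))
      exact fin _ b hb hVb (TwF4Par.cent17 hR) hg

end core

/-! ### numbers -/

section num

variable {m N : ℕ}

theorem N_val (hm : 1 ≤ m) (hN : N = mP (2 ^ m) ∨ N = mM (2 ^ m)) (h : N ≤ 2701) :
    (m = 1 ∧ (N = 109 ∨ N = 37)) ∨ (m = 2 ∧ (N = 1321 ∨ N = 793)) := by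
  have h1 : 2 ^ (2 * (2 * m + 1) - 1) ≤ N := by
    rcases hN with rfl | rfl
    · exact mP_ge m
    · exact mM_ge hm
  have h2 : m ≤ 2 := by
    by_contra hcon
    have : 2 ^ 13 ≤ 2 ^ (2 * (2 * m + 1) - 1) := Nat.pow_le_pow_right (by norm_num) (by omega)
    omega
  have h3 : m = 1 ∨ m = 2 := by omega
  rcases h3 with rfl | rfl
  · left
    refine ⟨rfl, ?_⟩
    rcases hN with rfl | rfl
    · left; decide
    · right; decide
  · right
    refine ⟨rfl, ?_⟩
    rcases hN with rfl | rfl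
    · left; decide
    · right; decide

theorem N_gt (hm : 1 ≤ m) (hN : N = mP (2 ^ m) ∨ N = mM (2 ^ m)) : 52 < N ∨ (m = 1 ∧ N = 37) := by
  by_contra hcon
  push Not at hcon
  have := N_val hm hN (by omega)
  omega

theorem N_prim (hm : 1 ≤ m) (hN : N = mP (2 ^ m) ∨ N = mM (2 ^ m)) {r : ℕ} (hr : r.Prime) (h : r ∣ N) :
    Prim (2 ^ (2 * m + 1)) 12 r := by
  rcases hN with rfl | rfl
  · exact prim0 hm ⟨hr, h⟩
  · exact prim1 hm ⟨hr, h⟩

theorem m6_dvd (hm : 1 ≤ m) : m6 (2 ^ m) ∣ (2 ^ (2 * m + 1)) ^ 6 - 1 := by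
  have hx := hx hm
  rw [← q_TF, ← Int.natCast_dvd_natCast, cast_m6 hx, Nat.cast_sub (Nat.one_le_pow _ _ (by positivity))]
  push_cast
  exact ⟨(2 * (2 ^ m : ℤ) ^ 2) ^ 4 + (2 * (2 ^ m : ℤ) ^ 2) ^ 3 - (2 * (2 ^ m : ℤ) ^ 2) - 1, by ring⟩

/-- the primes of class 12 do not divide `m6` -/
theorem not_dvd_m6 (hm : 1 ≤ m) {r : ℕ} (hr : Prim (2 ^ (2 * m + 1)) 12 r) : ¬ r ∣ m6 (2 ^ m) := fun h =>
  hr.not_dvd_sub (m := 6) (by norm_num) (h.trans (m6_dvd hm))

theorem m6_odd (hm : 1 ≤ m) : ¬ 2 ∣ m6 (2 ^ m) := fun h => by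
  have h1 := h.trans (m6_dvd hm)
  have h2 : 2 ∣ (2 ^ (2 * m + 1)) ^ 6 := dvd_pow (dvd_pow_self 2 (by omega)) (by norm_num)
  have h3 : 1 ≤ (2 ^ (2 * m + 1)) ^ 6 := Nat.one_le_pow _ _ (by positivity)
  omega

theorem N_odd (hm : 1 ≤ m) (hN : N = mP (2 ^ m) ∨ N = mM (2 ^ m)) : ¬ 2 ∣ N := fun h =>
  (N_prim hm hN Nat.prime_two h).not_dvd (dvd_pow_self 2 (by omega))

theorem prim_19 : Prim (2 ^ (2 * 1 + 1)) 6 19 := by
  have h1 := prim_of_prime' (r := 8) (u := 19) (by norm_num) (by norm_num) (by norm_num)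
  have h2 : orderOf ((8 : ℕ) : ZMod 19) = 6 := by
    refine orderOf_eq_of_pow_and_pow_div_prime (by norm_num) (by decide) fun p hp hpd => ?_
    have hp6 : p ≤ 6 := Nat.le_of_dvd (by norm_num) hpd
    have h0 := hp.two_le
    interval_cases p
    · decide
    · decide
    · exact absurd hp (by norm_num)
    · exact absurd hpd (by norm_num)
    · exact absurd hp (by norm_num)
  rw [h2] at h1
  exact h1

theorem prim_331 : Prim (2 ^ (2 * 2 + 1)) 6 331 := by
  have h1 := prim_of_prime' (r := 32) (u := 331) (by norm_num) (by norm_num) (by norm_num)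
  have h2 : orderOf ((32 : ℕ) : ZMod 331) = 6 := by
    refine orderOf_eq_of_pow_and_pow_div_prime (by norm_num) (by decide +kernel) fun p hp hpd => ?_
    have hp6 : p ≤ 6 := Nat.le_of_dvd (by norm_num) hpd
    have h0 := hp.two_le
    interval_cases p
    · decide +kernel
    · decide +kernel
    · exact absurd hp (by norm_num)
    · exact absurd hpd (by norm_num)
    · exact absurd hp (by norm_num)
  rw [h2] at h1
  exact h1

end num

/-- a simple group of order `|L₂(37)|` -/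
theorem kill_L37 {S : Type*} [Group S] [Finite S] (hS : Nat.card S = 25308) (hb : Big S 37 37 12) : False := by
  have hf : Fact (Nat.Prime 37) := ⟨by norm_num⟩
  obtain ⟨P⟩ : Nonempty (Sylow 37 S) := inferInstance
  obtain ⟨k, hk⟩ := IsPGroup.iff_card.1 P.2
  have h1 : 37 ^ k ∣ 25308 := by
    rw [← hk, ← hS]
    exact Subgroup.card_subgroup_dvd_card _
  have h2 : k < 2 := by
    by_contra hcon
    have h3 : 37 ^ 2 ∣ 25308 := (pow_dvd_pow 37 (by omega)).trans h1
    revert h3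
    norm_num
  have h3 : k = 1 := by
    have h4 : k ≠ 0 := by
      rintro rfl
      have h5 := P.not_dvd_index
      have h6 := (P : Subgroup S).card_mul_index
      rw [hk, hS, pow_zero, one_mul] at h6
      rw [h6] at h5
      exact h5 (by norm_num)
    omega
  rw [h3, pow_one] at hk
  obtain ⟨x, hx⟩ := exists_prime_orderOf_dvd_card' (G := (P : Subgroup S)) 37 (by rw [hk])
  have hxo : orderOf (x : S) = 37 := by rw [Subgroup.orderOf_coe, hx]
  have hz : Subgroup.zpowers (x : S) = (P : Subgroup S) := by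
    refine Subgroup.eq_of_le_of_card_ge (Subgroup.zpowers_le.2 x.2) ?_
    rw [hk, Nat.card_zpowers, hxo]
  have h4 := hb.card_normalizer_dvd hxo
  rw [hz] at h4
  have h5 := card_sylow_modEq_one 37 S
  rw [P.card_eq_index_normalizer] at h5
  have h6 := (normalizer ((P : Subgroup S) : Set S)).card_mul_index
  rw [hS] at h6
  have h7 : Nat.card ↥(normalizer ((P : Subgroup S) : Set S)) ∈ Nat.divisors 444 :=
    Nat.mem_divisors.2 ⟨h4, by norm_num⟩
  have key : ∀ k ∈ Nat.divisors 444, ∀ i, k * i = 25308 → i % 37 ≠ 1 := by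
    have h8 : ∀ k ∈ Nat.divisors 444, (25308 / k) % 37 ≠ 1 := by decide +kernel
    intro k hk' i hi
    have h9 := h8 k hk'
    have h10 : 0 < k := Nat.pos_of_mem_divisors hk'
    rwa [← hi, Nat.mul_div_cancel_left _ h10] at h9
  exact key _ h7 _ h6 h5

end Cfsg.Agent.H290.TFk
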