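import Cfsg.Agent.H290.Cov.TFk

/-!
# Subgroups of `²F₄(q)` of index prime to one factor of `Φ₁₂(q)` and to class 6 (helper290)

`K_TF46` : they are the whole group.
-/

set_option autoImplicit false

namespace Cfsg.Agent.H290.TFk

open Cfsg Cfsg.Lie Cfsg.Agent Cfsg.Agent.OrdDiv Cfsg.Agent.H436 Cfsg.Agent.H902 Cfsg.Agent.H290.ElReg Cfsg.Agent.H290.ElTab
  Cfsg.Agent.H563.KG Cfsg.Agent.H915.GN Cfsg.Agent.H264.GN Cfsg.Agent.H264.FKS Cfsg.Agent.H325.Same Cfsg.Agent.H325.Loc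
  Cfsg.Agent.H56.Exc Cfsg.Agent.H290.KTF4 Cfsg.Agent.H290.TFn

variable {F : Type} [Field F] [Fintype F] {m N : ℕ}

/-- the family of big primes -/
def BG (m N r k e : ℕ) : Prop :=
  (e = 12 ∧ r.Prime ∧ r ∣ N ∧ k = N) ∨ (e = 6 ∧ Prim (2 ^ (2 * m + 1)) 6 r ∧ k = m6 (2 ^ m))

theorem prg_iff {r : ℕ} : Pr (BG m N) r ↔ (r.Prime ∧ r ∣ N) ∨ Prim (2 ^ (2 * m + 1)) 6 r := by
  constructor
  · rintro ⟨k, e, ⟨-, h1, h2, -⟩ | ⟨-, h, -⟩⟩
    · exact Or.inl ⟨h1, h2⟩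
    · exact Or.inr h
  · rintro (h | h)
    · exact ⟨N, 12, Or.inl ⟨rfl, h.1, h.2, rfl⟩⟩
    · exact ⟨m6 (2 ^ m), 6, Or.inr ⟨rfl, h, rfl⟩⟩

theorem big_N (hF : Fintype.card F = 2 ^ (2 * m + 1)) (hm : 1 ≤ m) (hN : N = mP (2 ^ m) ∨ N = mM (2 ^ m)) {r : ℕ}
    (hr : r.Prime) (h : r ∣ N) : Big ↥(twistedF4 F (2 ^ m)) r N 12 := by
  rcases hN with rfl | rfl
  · exact big_TF4_plus hF hm hr h
  · exact big_TF4_minus hF hm hr h

theorem big_6 (hF : Fintype.card F = 2 ^ (2 * m + 1)) (hm : 1 ≤ m) {r : ℕ}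
    (hr : Prim (2 ^ (2 * m + 1)) 6 r) : Big ↥(twistedF4 F (2 ^ m)) r (m6 (2 ^ m)) 6 :=
  big_TF4_6 hF hm (by rwa [q_TF])

theorem N_dvd_card (hF : Fintype.card F = 2 ^ (2 * m + 1)) (hm : 1 ≤ m) (hN : N = mP (2 ^ m) ∨ N = mM (2 ^ m)) :
    N ∣ Nat.card ↥(twistedF4 F (2 ^ m)) := by
  rcases hN with rfl | rfl
  · exact (Dvd.intro _ rfl).trans (dvd_card hF hm)
  · exact (Dvd.intro_left _ rfl).trans (dvd_card hF hm)

theorem card_eq_tot (hF : Fintype.card F = 2 ^ (2 * m + 1)) : Nat.card ↥(twistedF4 F (2 ^ m)) = tot m := by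
  rw [S1068.result hF]
  unfold tot
  ring

theorem six_dvd_card (hF : Fintype.card F = 2 ^ (2 * m + 1)) {r : ℕ}
    (hr : Prim (2 ^ (2 * m + 1)) 6 r) : r ∣ Nat.card ↥(twistedF4 F (2 ^ m)) := by
  rw [card_eq_tot hF]
  have h1 : r ∣ (2 ^ (2 * m + 1)) ^ 3 + 1 := by
    have h2 : r ∣ (2 ^ (2 * m + 1)) ^ 6 - 1 := hr.dvd dvd_rfl
    have h3 : (2 ^ (2 * m + 1)) ^ 6 - 1 = ((2 ^ (2 * m + 1)) ^ 3 + 1) * ((2 ^ (2 * m + 1)) ^ 3 - 1) := by
      have := Nat.sq_sub_sq ((2 ^ (2 * m + 1)) ^ 3) 1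
      rw [one_pow, ← pow_mul] at this
      exact this
    rw [h3] at h2
    exact (hr.prime.dvd_mul.1 h2).resolve_right (hr.not_dvd_sub (by norm_num))
  unfold tot
  exact (((h1.mul_left _).mul_right _).mul_right _).mul_left _

/-- an element of prime order commuting with elements of order `r` -/
theorem odd_cent {T : Type*} [Group T] [Finite T] {r k e : ℕ} (hb : Big T r k e) (hk : ¬ 2 ∣ k) (x : T) (hx : orderOf x = r) :
    ¬ 2 ∣ Nat.card ↥(Subgroup.centralizer ({x} : Set T)) := fun h => hk (h.trans (hb.card x hx))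

/-- **The theorem.** -/
theorem K_TF46 (tb : OrderTable.{0}) (hcyc : CycFixSolv.{0})
    (hcf : ∀ (S : Type) [Group S] [Finite S] [IsSimpleGroup S], IsKnownSimple' S)
    (hF : Fintype.card F = 2 ^ (2 * m + 1)) (hm : 1 ≤ m) (hN : N = mP (2 ^ m) ∨ N = mM (2 ^ m))
    (M : Subgroup ↥(twistedF4 F (2 ^ m))) (hM1 : ∀ r, r.Prime → r ∣ N → ¬ r ∣ M.index)
    (hM2 : ∀ r, Prim (2 ^ (2 * m + 1)) 6 r → ¬ r ∣ M.index) : M = ⊤ := by
  have hp2 : Fact (Nat.Prime 2) := ⟨Nat.prime_two⟩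
  have : CharP F 2 := charP_of_card_eq_prime_pow hF
  have hx := hx hm
  have h8 := hq8 hm
  have hT := named tb hF hm
  have hgt := N_gt hm hN
  have dvdN : ∀ {G : Type} [Group G] {H : Subgroup G}, N ∣ Nat.card G →
      (∀ r, r.Prime → r ∣ N → ¬ r ∣ H.index) → N ∣ Nat.card H := by
    intro G _ H hG h
    rw [← H.index_mul_card] at hG
    refine Nat.Coprime.dvd_of_dvd_mul_left ?_ hG
    by_contra hcon
    obtain ⟨r, hr, h1, h2⟩ := Nat.Prime.not_coprime_iff_dvd.1 hcon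
    exact h r hr h1 h2
  have dvd6 : ∀ {G : Type} [Group G] {H : Subgroup G} {r : ℕ}, Prim (2 ^ (2 * m + 1)) 6 r → r ∣ Nat.card G →
      ¬ r ∣ H.index → r ∣ Nat.card H := by
    intro G _ H r hr hG h
    rw [← H.index_mul_card] at hG
    exact (hr.prime.dvd_mul.1 hG).resolve_left h
  have hMN : N ∣ Nat.card M := dvdN (N_dvd_card hF hm hN) hM1
  have hM6 : ∀ r, Prim (2 ^ (2 * m + 1)) 6 r → r ∣ Nat.card M := fun r hr => dvd6 hr (six_dvd_card hF hr) (hM2 r hr)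
  obtain ⟨r₀, hr₀p, hr₀N⟩ := Nat.exists_prime_and_dvd (n := N) (by omega)
  have hr₀ := N_prim hm hN hr₀p hr₀N
  have hr₀M : r₀ ∣ Nat.card M := hr₀N.trans hMN
  obtain ⟨s₀, hs₀2⟩ := Cfsg.Agent.H436.exists_prim (q := 2) (e := (2 * m + 1) * 6) le_rfl (by omega) (by omega)
  have hs₀ : Prim (2 ^ (2 * m + 1)) 6 s₀ := Cfsg.Agent.H264.GN.prim_pow (by omega) hs₀2
  have hs₀M := hM6 s₀ hs₀
  have h6lt : ∀ s, Prim (2 ^ (2 * m + 1)) 6 s → 6 < s := fun s hs => Cfsg.Agent.H56.Exc.prim_lt hs (by norm_num)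
  have h12lt : ∀ s, Prim (2 ^ (2 * m + 1)) 12 s → 12 < s := fun s hs => Cfsg.Agent.H56.Exc.prim_lt hs (by norm_num)
  have hne6 : ∀ s, Prim (2 ^ (2 * m + 1)) 6 s → ¬ s ∣ N := fun s hs h => by
    have := (N_prim hm hN hs.prime h).unique hs
    omega
  have hbMN : ∀ r, r.Prime → r ∣ N → Big ↥M r N 12 := fun r hr h => (big_N hF hm hN hr h).subgroup M
  have hbM6 : ∀ r, Prim (2 ^ (2 * m + 1)) 6 r → Big ↥M r (m6 (2 ^ m)) 6 := fun r hr => (big_6 hF hm hr).subgroup M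
  have hrf : RFam ↥M (BG m N) :=
    { big := by
        rintro r k e (⟨rfl, h1, h2, rfl⟩ | ⟨rfl, h, rfl⟩)
        · exact hbMN r h1 h2
        · exact hbM6 r h
      dvd := by
        rintro r k e (⟨rfl, h1, h2, rfl⟩ | ⟨rfl, h, rfl⟩)
        · exact h2.trans hMN
        · exact hM6 r h
      sep := by
        rintro r k e (⟨rfl, h1, h2, rfl⟩ | ⟨rfl, h, rfl⟩) hcon
        · rcases hs₀.prime.dvd_mul.1 (hs₀M.trans hcon) with h3 | h3
          · have h4 := Nat.le_of_dvd (by norm_num) h3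
            have h5 := h6lt s₀ hs₀
            have h6 := hs₀.prime
            interval_cases s₀ <;> revert h6 h3 <;> norm_num
          · exact hne6 s₀ hs₀ h3
        · rcases hr₀p.dvd_mul.1 (hr₀M.trans hcon) with h3 | h3
          · have h4 := Nat.le_of_dvd (by norm_num) h3
            have h5 := h12lt r₀ hr₀
            omega
          · exact not_dvd_m6 hm hr₀ h3 }
  -- reducedness
  have hcore : ∀ A : Subgroup M, A.Normal → IsPGroup 2 A → A = ⊥ := by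
    intro A hA hAp
    by_contra hA1
    have hle : M ≤ Subgroup.normalizer ((A.map M.subtype : Subgroup ↥(twistedF4 F (2 ^ m))) : Set ↥(twistedF4 F (2 ^ m))) := by
      have h1 := Subgroup.le_normalizer_map (H := A) M.subtype
      rw [Subgroup.normalizer_eq_top_iff.2 hA, ← MonoidHom.range_eq_map, Subgroup.range_subtype] at h1
      exact h1
    refine no_norm hm hF hr₀ (fun x hx => odd_cent (big_N hF hm hN hr₀p hr₀N) (N_odd hm hN) x hx) hs₀2
      (fun x hx => odd_cent (big_6 hF hm hs₀) (m6_odd hm) x hx) (V := A.map M.subtype) (hAp.map _) ?_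
      (hr₀M.trans (Subgroup.card_dvd_of_le hle)) (hs₀M.trans (Subgroup.card_dvd_of_le hle))
    intro h1
    exact hA1 ((Subgroup.map_eq_bot_iff_of_injective _ M.subtype_injective).1 h1)
  obtain ⟨τ, hτ⟩ := (fth (F := F) (2 ^ m)).sub M.subtype M.subtype_injective
  have hMtot : Nat.card M ∣ tot m := by
    rw [← card_eq_tot hF]
    exact Subgroup.card_subgroup_dvd_card M
  have hred : Red ↥M (Pr (BG m N)) := by
    refine red_of hcyc hτ hcore (prg_iff.2 (Or.inl ⟨hr₀p, hr₀N⟩)) hr₀p hr₀M (fun x hx => (hbMN r₀ hr₀p hr₀N).cyc x hx)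
      fun t ht ht2 htn htM => ?_
    rw [Fintype.card_fin]
    have htN : ¬ t ∣ N := fun h => htn (prg_iff.2 (Or.inl ⟨ht, h⟩))
    rcases hgt with hgt | ⟨rfl, rfl⟩
    · refine ⟨N, hMN, ?_, Or.inl hgt⟩
      intro x hxp hxm y hyt hc
      exact eq_one_of_centralizer ht ((hbMN (orderOf x) hxp hxm).card x rfl) hyt hc htN
    · by_cases ht3 : t = 3
      · subst ht3
        refine ⟨37, hMN, ?_, Or.inr ⟨by norm_num, fun k hk hk3 => ?_⟩⟩
        · intro x hxp hxm y hyt hc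
          exact eq_one_of_centralizer ht ((hbMN (orderOf x) hxp hxm).card x rfl) hyt hc htN
        · have h1 := hk3.trans hMtot
          have h2 : k ≤ 5 := by
            by_contra hcon
            have h3 : 3 ^ 6 ∣ tot 1 := (pow_dvd_pow 3 (by omega)).trans h1
            revert h3
            decide +kernel
          interval_cases k <;> norm_num
      · refine ⟨37 * 19, Nat.Coprime.mul_dvd_of_dvd_of_dvd (by norm_num) hMN (hM6 19 prim_19), ?_, Or.inl (by norm_num)⟩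
        intro x hxp hxm y hyt hc
        rcases hxp.dvd_mul.1 hxm with h | h
        · exact eq_one_of_centralizer ht ((hbMN (orderOf x) hxp h).card x rfl) hyt hc htN
        · have h1 : orderOf x = 19 := (Nat.prime_dvd_prime_iff_eq hxp (by norm_num)).1 h
          have h2 : m6 (2 ^ 1) = 3 * 19 := by decide
          refine eq_one_of_centralizer ht ((hbM6 19 prim_19).card x h1) hyt hc fun h3 => ?_
          rw [h2] at h3
          rcases ht.dvd_mul.1 h3 with h4 | h4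
          · exact ht3 ((Nat.prime_dvd_prime_iff_eq ht Nat.prime_three).1 h4)
          · have h5 := (Nat.prime_dvd_prime_iff_eq ht (by norm_num)).1 h4
            exact htn (prg_iff.2 (Or.inr (h5 ▸ prim_19)))
  obtain ⟨S, hSn, hSs, hSna, hS⟩ :=
    hrf.exists_full hcyc hred (r₁ := r₀) (m₁ := N) (e₁ := 12) (Or.inl ⟨rfl, hr₀p, hr₀N, rfl⟩)
  have hSs' : IsSimpleGroup S := hSs
  have hS0 : ∀ r, r.Prime → r ∣ N → Big ↥S r N 12 ∧ r ∣ Nat.card S ∧ ¬ r ∣ S.index := fun r h1 h2 => by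
    obtain ⟨h1, h2, h3, -⟩ := hS r N 12 (Or.inl ⟨rfl, h1, h2, rfl⟩)
    exact ⟨h1, h2, h3⟩
  have hS1 : ∀ r, Prim (2 ^ (2 * m + 1)) 6 r → Big ↥S r (m6 (2 ^ m)) 6 ∧ r ∣ Nat.card S := fun r h => by
    obtain ⟨h1, h2, h3, -⟩ := hS r (m6 (2 ^ m)) 6 (Or.inr ⟨rfl, h, rfl⟩)
    exact ⟨h1, h2⟩
  have hSd : N ∣ Nat.card S := dvdN hMN fun r h1 h2 => (hS0 r h1 h2).2.2
  have hna' : ¬ ∀ x y : S, x * y = y * x := fun h => hSna ⟨⟨h⟩⟩
  have hab1 : ∀ r, r.Prime → r ∣ N → (r - 1) % 12 = 0 := fun r hr h =>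
    mod_of_prim (by omega) (by norm_num) (N_prim hm hN hr h)
  have hStot : Nat.card S ∣ tot m := (Subgroup.card_subgroup_dvd_card S).trans hMtot
  have hrepS : Fth 52 F S := ((fth (F := F) (2 ^ m)).sub M.subtype M.subtype_injective).sub S.subtype S.subtype_injective
  obtain ⟨g, hg⟩ := exists_named tb (hcf S) hna'
  rcases Cfsg.Agent.H192.Singer.cases_name hg.cond with ⟨k, rfl⟩ | hsp | ⟨l, hl, hch⟩
  · exfalso
    obtain ⟨Φ⟩ : Nonempty (S ≃* alternatingGroup (Fin k)) := hg.real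
    have hk : 5 ≤ k := hg.cond
    have hnil : ∀ (r : ℕ) {j e : ℕ}, Big ↥S r j e → ∀ x : S, orderOf x = r →
        Group.IsNilpotent (Subgroup.centralizer ({x} : Set S)) := by
      intro r j e hb x hx
      have := hb.cyc x hx
      let _ := IsCyclic.commGroup (α := ↥(Subgroup.centralizer ({x} : Set S)))
      infer_instance
    have h1 := h12lt r₀ hr₀
    have h2 := h6lt s₀ hs₀
    have a1 := Cfsg.Agent.H290.ElRich.le_of_dvd_alt hr₀p (by omega) Φ (hS0 r₀ hr₀p hr₀N).2.1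
    have a2 := Cfsg.Agent.H290.ElRich.alt_le hr₀p (by omega) Φ (hS0 r₀ hr₀p hr₀N).2.1 (hnil r₀ (hS0 r₀ hr₀p hr₀N).1)
    have a3 := Cfsg.Agent.H290.ElRich.le_of_dvd_alt hs₀.prime (by omega) Φ (hS1 s₀ hs₀).2
    have a4 := Cfsg.Agent.H290.ElRich.alt_le hs₀.prime (by omega) Φ (hS1 s₀ hs₀).2 (hnil s₀ (hS1 s₀ hs₀).1)
    have b1 := hab1 r₀ hr₀p hr₀N
    have b2 : (s₀ - 1) % 6 = 0 := mod_of_prim (by omega) (by norm_num) hs₀
    have hne : r₀ ≠ s₀ := fun h => hne6 s₀ hs₀ (h ▸ hr₀N)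
    omega
  · exfalso
    have h1 := Cfsg.Agent.H192.Singer.spor_mem hsp
    have h2 : Nat.card S = ordN g := hg.ord
    have h3 := le_spor' KTF4.bndS_12 h1 hab1 (by rw [← h2]; exact hSd)
    rcases N_val hm hN h3 with ⟨rfl, rfl | rfl⟩ | ⟨rfl, rfl | rfl⟩
    · exact sporT svTS_a h1 (h2 ▸ hSd) (h2 ▸ (hS1 19 prim_19).2)
    · exact sporT svTS_b h1 (h2 ▸ hSd) (h2 ▸ (hS1 19 prim_19).2)
    · exact sporT svTS_c h1 (h2 ▸ hSd) (h2 ▸ (hS1 331 prim_331).2)
    · exact sporT svTS_d h1 (h2 ▸ hSd) (h2 ▸ (hS1 331 prim_331).2)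
  · by_cases hpl : l = 2
    · subst hpl
      have hdS : Nat.card S ∣ num (.tf4 (2 ^ (2 * m + 1))) := IsNamed.card_dvd hT S
      have h1 := charp_tf4_6 (by omega) hT.cond hg.cond hch hg.eq hdS (fun s hs =>
        (hS1 s (Cfsg.Agent.H264.GN.prim_pow (by omega) hs)).2) hr₀ (hS0 r₀ hr₀p hr₀N).2.1
      subst h1
      exact eq_top_of_name hT hg
    · exfalso
      obtain ⟨X, f₁, h1, h2, -⟩ := exists_lie hl hg hch
      have hlF : (l : F) ≠ 0 := by
        intro h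
        exact hpl ((Nat.prime_dvd_prime_iff_eq Nat.prime_two hl).1 ((CharP.cast_eq_zero_iff F 2 l).1 h)).symm
      have h3 := Cfsg.Agent.H290.ElReg.lb_le hna' (by norm_num) hrepS h1 hg.real h2 hlF
      have h4 := le_cross' (by norm_num) KTF4.bndR_52_12 h2 h3 hab1 hSd
      rcases N_val hm hN h4 with ⟨rfl, rfl | rfl⟩ | ⟨rfl, rfl | rfl⟩
      · have := crossT svT_a h2 h3 hpl hSd (hS1 19 prim_19).2 hStot
        omega
      · have h5 := crossT svT_b h2 h3 hpl hSd (hS1 19 prim_19).2 hStot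
        exact kill_L37 h5.2 (hS0 37 (by norm_num) dvd_rfl).1
      · have := crossT svT_c h2 h3 hpl hSd (hS1 331 prim_331).2 hStot
        omega
      · have := crossT svT_d h2 h3 hpl hSd (hS1 331 prim_331).2 hStot
        omega

end Cfsg.Agent.H290.TFk
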